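import Cfsg.Agent.Lib.Components.Signalizer.Basic
import Cfsg.Agent.Lib.Components.Factorization
import Cfsg.Agent.Lib.Coprime.SchurZassenhaus

/-!
# An ordered factorisation by centralisers of hyperplanes

An elementary abelian `p`-group acting on a `p'`-group `R`, with `F` a hyperplane, gives
`R = Y C_R(F)` where `Y` is generated by the centralisers of the other hyperplanes.
-/

set_option autoImplicit false
set_option linter.unusedSectionVars false

namespace CfsgLib.LocalEvenB.ExtremelyClosedOdd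

open Subgroup
open scoped Pointwise commutatorElement

variable {G : Type*} [Group G] [Finite G] {p : ℕ} [hp : Fact p.Prime] {A F : Subgroup G}

/-- The subgroup of `R` generated by the centralisers of the hyperplanes other than `F`. -/
def otherGen (p : ℕ) (A F R : Subgroup G) : Subgroup G :=
  closure {x | x ∈ R ∧ ∃ E : Subgroup G, E ≤ A ∧ E.relIndex A = p ∧ E ≠ F ∧ ∀ e ∈ E, Commute x e}

omit [Finite G] hp in
theorem otherGen_le (R : Subgroup G) : otherGen p A F R ≤ R :=
  (closure_le _).2 fun _ hx => hx.1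

omit [Finite G] hp in
theorem otherGen_mono {R S : Subgroup G} (h : R ≤ S) : otherGen p A F R ≤ otherGen p A F S :=
  closure_mono fun _ hx => ⟨h hx.1, hx.2⟩

theorem le_normalizer_otherGen (hA : Cfsg.IsElementaryAbelian p A) {R : Subgroup G}
    (hAR : A ≤ normalizer (R : Set G)) : A ≤ normalizer (otherGen p A F R : Set G) := by
  intro a ha
  refine CfsgLib.Coprime.mem_normalizer_of_conj_map_le fun x hx => ?_
  have hle : otherGen p A F R ≤ (otherGen p A F R).comap (MulAut.conj a).toMonoidHom := by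
    refine (closure_le _).2 ?_
    rintro y ⟨hyR, E, hEA, hEi, hEF, hy⟩
    refine subset_closure ⟨(mem_normalizer_iff.1 (hAR ha) y).1 hyR, E, hEA, hEi, hEF, fun e he => ?_⟩
    have hae : Commute a e := CfsgLib.Components.Signalizer.commute_of_mem hA ha (hEA he)
    exact (hae.mul_left (hy e he)).mul_left hae.inv_left
  exact hle hx

omit [Finite G] in
theorem ne_bot_of_relIndex (hFi : F.relIndex A = p) : A ≠ ⊥ := by
  rintro rfl
  rw [relIndex_bot_right] at hFi
  exact hp.out.ne_one hFi.symm

theorem split_solvable (hA : Cfsg.IsElementaryAbelian p A) (hFi : F.relIndex A = p) :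
    ∀ R : Subgroup G, Group.IsSolvable R → (Nat.card R).Coprime p → A ≤ normalizer (R : Set G) →
      ∀ x ∈ R, ∃ z ∈ otherGen p A F R, ∃ y ∈ R ⊓ centralizer (F : Set G), x = z * y := by
  intro R
  induction R using WellFoundedLT.induction with
  | _ R IH =>
    intro hsol hR hAR x hx
    by_cases hb : R = ⊥
    · refine ⟨1, one_mem _, 1, one_mem _, ?_⟩
      rw [hb, mem_bot] at hx
      simp [hx]
    set Rd := ⁅R, R⁆ with hRd
    have hlt : Rd < R := CfsgLib.Coprime.commutator_self_lt hsol hb
    have hARd : A ≤ normalizer (Rd : Set G) := hAR.trans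
      (CfsgLib.Coprime.normalizer_le_normalizer_commutator R)
    set Y := otherGen p A F R with hY
    set C := R ⊓ centralizer (F : Set G) with hC
    set S := Y ⊔ Rd with hS
    have hSR : S ≤ R := sup_le (otherGen_le R) hlt.le
    have hRS : R ≤ normalizer (S : Set G) := le_normalizer_iff.2 fun g hg s hs => by
      rw [show g * s * g⁻¹ = ⁅g, s⁆ * s by rw [commutatorElement_def]; group]
      exact mul_mem (mem_sup_right (commutator_mem_commutator hg (hSR hs))) hs
    have hgen : R ≤ S ⊔ C := by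
      refine (CfsgLib.Components.Signalizer.le_iSup_centralizer_relIndex hA le_rfl
        (ne_bot_of_relIndex hFi) (hp.out.coprime_iff_not_dvd.1 hR.symm) hAR).trans
        (iSup_le fun D => ?_)
      obtain ⟨D, hDA, hDi⟩ := D
      rintro y ⟨hyR, hyD⟩
      by_cases hDF : D = F
      · exact mem_sup_right ⟨hyR, hDF ▸ hyD⟩
      · exact mem_sup_left (mem_sup_left (subset_closure ⟨hyR, D, hDA, hDi, hDF,
          fun e he => (mem_centralizer_iff.1 hyD e he).symm⟩))
    obtain ⟨s, hs, c, hc, rfl⟩ :=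
      (CfsgLib.Coprime.mem_sup_of_le_normalizer (inf_le_left.trans hRS)).1 (hgen hx)
    have hYn : Y ≤ normalizer (Rd : Set G) :=
      (otherGen_le R).trans (le_normalizer.trans
        (CfsgLib.Coprime.normalizer_le_normalizer_commutator R))
    obtain ⟨q, hq, z, hz, rfl⟩ :=
      (CfsgLib.Coprime.mem_sup_of_le_normalizer hYn).1 (show s ∈ Rd ⊔ Y by rwa [sup_comm])
    have hq' : z⁻¹ * q * z ∈ Rd := (mem_normalizer_iff''.1 (hYn hz) q).1 hq
    obtain ⟨z', hz', y', hy', he⟩ := IH Rd hlt (CfsgLib.Coprime.isSolvable_of_le hlt.le hsol)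
      (hR.coprime_dvd_left (card_dvd_of_le hlt.le)) hARd _ hq'
    refine ⟨z * z', mul_mem hz (otherGen_mono hlt.le hz'), y' * c,
      mul_mem ⟨hlt.le hy'.1, hy'.2⟩ hc, ?_⟩
    calc q * z * c = z * (z⁻¹ * q * z) * c := by group
      _ = z * z' * (y' * c) := by rw [he]; group

/-- The factorisation `R = Y C_R(F)`. -/
theorem split (hA : Cfsg.IsElementaryAbelian p A) (hFA : F ≤ A) (hFi : F.relIndex A = p)
    (hE : ∃ E : Subgroup G, E ≤ A ∧ E.relIndex A = p ∧ E ≠ F) {R : Subgroup G}
    (hR : (Nat.card R).Coprime p) (hAR : A ≤ normalizer (R : Set G)) :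
    ∀ x ∈ R, ∃ z ∈ otherGen p A F R, ∃ y ∈ R ⊓ centralizer (F : Set G), x = z * y := by
  haveI := hA.1
  have hAs : Group.IsSolvable A := Group.isSolvable_of_comm fun a b => mul_comm' a b
  have hcop : (Nat.card A).Coprime (Nat.card R) :=
    CfsgLib.Components.Signalizer.coprime_card hA (hp.out.coprime_iff_not_dvd.1 hR.symm)
  set Y := otherGen p A F R with hY
  set C := R ⊓ centralizer (F : Set G) with hC
  have hYR : Y ≤ R := otherGen_le R
  have hCR : C ≤ R := inf_le_left
  have hcen : R ⊓ centralizer (A : Set G) ≤ C ⊓ Y := by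
    obtain ⟨E, hEA, hEi, hEF⟩ := hE
    intro y hy
    refine ⟨⟨hy.1, centralizer_le hFA hy.2⟩, subset_closure ⟨hy.1, E, hEA, hEi, hEF, fun e he => ?_⟩⟩
    exact (mem_centralizer_iff.1 hy.2 e (hEA he)).symm
  have hAC : A ≤ normalizer (C : Set G) :=
    CfsgLib.Components.Signalizer.le_normalizer_inf_centralizer hA hAR hFA
  have hACY : A ≤ normalizer ((C ⊓ Y : Subgroup G) : Set G) :=
    (le_inf hAC (le_normalizer_otherGen hA hAR)).trans inf_normalizer_le_normalizer_inf
  intro x hx
  obtain ⟨z, hz, y, hy, e⟩ := CfsgLib.Components.Factorization.exists_mul_eq hYR hCR (by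
    refine Nat.le_of_dvd (Nat.mul_pos Nat.card_pos Nat.card_pos) ?_
    rw [← Nat.factorization_le_iff_dvd (Nat.mul_pos Nat.card_pos Nat.card_pos).ne'
      (Nat.mul_pos Nat.card_pos Nat.card_pos).ne']
    intro q
    by_cases hq : q.Prime
    swap
    · simp [Nat.factorization_eq_zero_of_not_prime _ hq]
    haveI := Fact.mk hq
    obtain ⟨P, hP⟩ := CfsgLib.Coprime.exists_invariant_sylow hAR hcop (.inl hAs) q
    set Q := (P : Subgroup R).map R.subtype with hQ
    have hQp : IsPGroup q Q := P.isPGroup'.map _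
    have hQR : Q ≤ R := map_subtype_le _
    have hQs : Group.IsSolvable Q := by
      haveI := hQp.isNilpotent
      infer_instance
    have hset : ((Q ⊓ Y : Subgroup G) : Set G) * ((Q ⊓ C : Subgroup G) : Set G) = (Q : Set G) := by
      refine Set.Subset.antisymm ?_ fun s hs => ?_
      · rintro _ ⟨a, ha, b, hb, rfl⟩
        exact mul_mem ha.1 hb.1
      · obtain ⟨a, ha, b, hb, e⟩ :=
          split_solvable hA hFi Q hQs (hR.coprime_dvd_left (card_dvd_of_le hQR)) hP s hs
        exact ⟨a, ⟨otherGen_le Q ha, otherGen_mono hQR ha⟩, b, ⟨hb.1, hQR hb.1, hb.2⟩, e.symm⟩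
    have hmul := CfsgLib.Components.Factorization.card_coe_mul_mul_card_inf (Q ⊓ C) (Q ⊓ Y)
    rw [hset, ← inf_inf_distrib_left, SetLike.coe_sort_coe] at hmul
    have h1 := CfsgLib.Components.Factorization.qPart_le_card_inf hAs hAR hcop P hP
      (inf_le_left.trans hCR : C ⊓ Y ≤ R) hACY (hcen.trans le_normalizer)
    have h2 := CfsgLib.Components.Factorization.card_le_qPart (q := q) (U := C)
      (hQp.to_le inf_le_left : IsPGroup q ↥(Q ⊓ C)) inf_le_right
    have h3 := CfsgLib.Components.Factorization.card_le_qPart (q := q) (U := Y)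
      (hQp.to_le inf_le_left : IsPGroup q ↥(Q ⊓ Y)) inf_le_right
    have hQc : Nat.card Q = q ^ (Nat.card R).factorization q := by
      rw [hQ, CfsgLib.Coprime.card_map_subtype, P.card_eq_multiplicity]
    unfold CfsgLib.Components.Factorization.qPart at h1 h2 h3
    have h4 : q ^ (Nat.card R).factorization q * q ^ (Nat.card ↥(C ⊓ Y)).factorization q ≤
        q ^ (Nat.card C).factorization q * q ^ (Nat.card Y).factorization q :=
      calc _ ≤ Nat.card Q * Nat.card ↥(Q ⊓ (C ⊓ Y)) := by
            rw [hQc]; exact Nat.mul_le_mul_left _ h1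
        _ = Nat.card ↥(Q ⊓ C) * Nat.card ↥(Q ⊓ Y) := hmul
        _ ≤ _ := Nat.mul_le_mul h2 h3
    rw [← pow_add, ← pow_add] at h4
    simp only [Nat.factorization_mul Nat.card_pos.ne' Nat.card_pos.ne', Finsupp.add_apply]
    exact (Nat.pow_le_pow_iff_right hq.one_lt).1 h4) x hx
  exact ⟨z, hz, y, hy, e.symm⟩

end CfsgLib.LocalEvenB.ExtremelyClosedOdd
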