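import Cfsg.Agent.Lib.LocalEvenB.ExtremelyClosedOdd.Basic
import Cfsg.Agent.Lib.LocalEvenB.ExtremelyClosedOdd.Split

/-!
# The normalizer centralizes `Ω₁(H)`, when this is not cyclic

Elements commuting with a hyperplane and fixing `Ω₁(H)` are multiplied as words; an induction on
the length shows that the subgroup they generate fixes `Ω₁(H)`.
-/

set_option autoImplicit false
set_option linter.unusedSectionVars false

namespace CfsgLib.LocalEvenB.ExtremelyClosedOdd

open Subgroup

universe u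

variable {G : Type u} [Group G] [Finite G] {p : ℕ} [hp : Fact p.Prime] {H : Subgroup G}

/-- A hyperplane of `Ω₁(H)`. -/
def IsHyp (p : ℕ) (H F : Subgroup G) : Prop := F ≤ om p H ∧ F.relIndex (om p H) = p

/-- A generator: an element centralizing a hyperplane and fixing `Ω₁(H)`. -/
def Gen (p : ℕ) (H F : Subgroup G) (x : G) : Prop :=
  IsHyp p H F ∧ (∀ f ∈ F, Commute x f) ∧ Triv p H x

/-- A word in the generators. -/
def Good (p : ℕ) (H : Subgroup G) (l : List (Subgroup G × G)) : Prop := ∀ r ∈ l, Gen p H r.1 r.2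

/-- The value of a word. -/
def value (l : List (Subgroup G × G)) : G := (l.map Prod.snd).prod

theorem fix_pow (hH : Hyp p H) {g e : G} (he : Om p H e) (h : Fix p g e) (j : ℕ) :
    Fix p g (e ^ j) := by
  induction j with
  | zero =>
    rw [pow_zero, Fix, mul_one, mul_inv_cancel, inv_one, mul_one, orderOf_one]
    exact hp.out.not_dvd_one
  | succ j ih =>
    rw [pow_succ]
    exact fix_mul hH ((mem_om_iff hH).1 (pow_mem ((mem_om_iff hH).2 he) j)) he ih h

/-- The elements of `Ω₁(H)` fixed by `g`. -/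
def fixSub (hH : Hyp p H) (g : G) : Subgroup G where
  carrier := {e | Om p H e ∧ Fix p g e}
  one_mem' := ⟨⟨one_mem H, one_pow p⟩, by
    rw [Fix, mul_one, mul_inv_cancel, inv_one, mul_one, orderOf_one]; exact hp.out.not_dvd_one⟩
  mul_mem' := fun {a b} ha hb =>
    ⟨(mem_om_iff hH).1 (mul_mem ((mem_om_iff hH).2 ha.1) ((mem_om_iff hH).2 hb.1)),
      fix_mul hH ha.1 hb.1 ha.2 hb.2⟩
  inv_mem' := fun {a} ha => by
    have h : a⁻¹ = a ^ (p - 1) := inv_eq_of_mul_eq_one_right (by
      rw [← pow_succ', Nat.sub_add_cancel hp.out.one_le, ha.1.2])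
    show Om p H a⁻¹ ∧ Fix p g a⁻¹
    rw [h]
    exact ⟨(mem_om_iff hH).1 (pow_mem ((mem_om_iff hH).2 ha.1) _), fix_pow hH ha.1 ha.2 _⟩

theorem hyp_cover {F : Subgroup G} (hF : IsHyp p H F) {a : G} (ha : a ∈ om p H) (haF : a ∉ F) :
    om p H ≤ F ⊔ zpowers a := by
  have hle : F ⊔ zpowers a ≤ om p H := sup_le hF.1 (zpowers_le.2 ha)
  have h := relIndex_mul_relIndex F (F ⊔ zpowers a) (om p H) le_sup_left hle
  rw [hF.2] at h
  have h1 : F.relIndex (F ⊔ zpowers a) ≠ 1 := fun h1 =>
    haF (relIndex_eq_one.1 h1 (mem_sup_right (mem_zpowers a)))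
  have h2 := ((Nat.prime_mul_iff).1 (h.symm ▸ hp.out)).resolve_right fun h3 => h1 h3.2
  exact relIndex_eq_one.1 h2.2

theorem exists_mem_notMem {F F' : Subgroup G} (hF : IsHyp p H F) (hF' : IsHyp p H F')
    (hne : F ≠ F') : ∃ a ∈ F', a ∉ F := by
  by_contra h
  push Not at h
  have h1 := relIndex_mul_relIndex F' F (om p H) h hF.1
  rw [hF.2, hF'.2] at h1
  exact hne (le_antisymm (relIndex_eq_one.1 (by
    exact Nat.eq_of_mul_eq_mul_right hp.out.pos (h1.trans (one_mul p).symm))) h)

theorem triv_of_two_hyp (hH : Hyp p H) {F F' : Subgroup G} (hF : IsHyp p H F)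
    (hF' : IsHyp p H F') (hne : F ≠ F') {g : G} (h1 : ∀ f ∈ F, Fix p g f)
    (h2 : ∀ f ∈ F', Fix p g f) : Triv p H g := by
  obtain ⟨a, ha, haF⟩ := exists_mem_notMem hF hF' hne
  have hle : F ⊔ zpowers a ≤ fixSub hH g :=
    sup_le (fun f hf => ⟨(mem_om_iff hH).1 (hF.1 hf), h1 f hf⟩)
      (zpowers_le.2 ⟨(mem_om_iff hH).1 (hF'.1 ha), h2 a ha⟩)
  exact fun e he => (hle (hyp_cover hF (hF'.1 ha) haF ((mem_om_iff hH).2 he))).2

theorem exists_other_hyp (hH : Hyp p H) {F : Subgroup G} (hF : IsHyp p H F) (hF1 : F ≠ ⊥) :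
    ∃ E : Subgroup G, IsHyp p H E ∧ E ≠ F := by
  obtain ⟨b, hbF, hb1⟩ := (Subgroup.bot_or_exists_ne_one F).resolve_left hF1
  obtain ⟨E, -, hE⟩ := Finite.exists_le_maximal
    (p := fun E : Subgroup G => E ≤ om p H ∧ b ∉ E) (a := ⊥) ⟨bot_le, by simpa using hb1⟩
  obtain ⟨hEV, hbE⟩ := hE.prop
  have hbo : b ∈ om p H := hF.1 hbF
  have hcom : ∀ a ∈ om p H, zpowers a ≤ normalizer (E : Set G) := fun a ha =>
    zpowers_le.2 (centralizer_le_normalizer _ (mem_centralizer_iff.2 fun e he =>
      (commute_H hH (om_le hH (hEV he)) (om_le hH ha)).eq))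
  have hsup : om p H ≤ E ⊔ zpowers b := by
    intro a ha
    by_cases haE : a ∈ E
    · exact mem_sup_left haE
    have hb' : b ∈ E ⊔ zpowers a := by
      by_contra hb'
      exact haE (hE.le_of_ge ⟨sup_le hEV (zpowers_le.2 ha), hb'⟩ le_sup_left
        (mem_sup_right (mem_zpowers a)))
    obtain ⟨e, he, c, hc, hec⟩ := (CfsgLib.Coprime.mem_sup_of_le_normalizer (hcom a ha)).1 hb'
    obtain ⟨i, rfl⟩ := mem_zpowers_iff.1 hc
    have hi : ¬ (p : ℤ) ∣ i := by
      rintro ⟨k, rfl⟩
      refine hbE ?_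
      rw [← hec, zpow_mul, zpow_natCast, ((mem_om_iff hH).1 ha).2, one_zpow, mul_one]
      exact he
    obtain ⟨u, w, huw⟩ := ((Nat.prime_iff_prime_int.1 hp.out).coprime_iff_not_dvd.2 hi).symm
    have hai : a ^ i = e⁻¹ * b := by rw [← hec]; group
    have ha' : a = (e⁻¹ * b) ^ u := by
      rw [← hai, ← zpow_mul]
      conv_lhs => rw [← zpow_one a, ← huw, zpow_add]
      rw [show w * (p : ℤ) = (p : ℤ) * w from mul_comm _ _, zpow_mul a (p : ℤ), zpow_natCast,
        ((mem_om_iff hH).1 ha).2, one_zpow, mul_one, mul_comm u]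
    rw [ha']
    exact zpow_mem (mul_mem (mem_sup_left (inv_mem he)) (mem_sup_right (mem_zpowers b))) u
  refine ⟨E, ⟨hEV, ?_⟩, fun h => hbE (h ▸ hbF)⟩
  have h1 := CfsgLib.Components.Signalizer.card_sup_dvd_mul (hcom b hbo)
  rw [le_antisymm (sup_le hEV (zpowers_le.2 hbo)) hsup,
    ← CfsgLib.Coprime.card_mul_relIndex' hEV, Nat.card_zpowers,
    show orderOf b = p from orderOf_eq_prime ((mem_om_iff hH).1 hbo).2 hb1] at h1
  refine ((Nat.dvd_prime hp.out).1 (Nat.dvd_of_mul_dvd_mul_left Nat.card_pos h1)).resolve_left ?_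
  exact fun h2 => hbE (relIndex_eq_one.1 h2 hbo)

theorem value_conj (n : G) : ∀ l : List (Subgroup G × G),
    value (l.map fun r => (r.1, n * r.2 * n⁻¹)) = n * value l * n⁻¹
  | [] => by simp [value]
  | r :: l => by
    have ih := value_conj n l
    simp only [value, List.map_cons, List.prod_cons] at ih ⊢
    rw [ih]; group

variable (hM : Min p H) (hr : ∀ F, IsHyp p H F → F ≠ ⊥)

include hM hr in
theorem centralizer_ne_top {F : Subgroup G} (hF : IsHyp p H F) :
    centralizer (F : Set G) ≠ ⊤ := by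
  obtain ⟨f, hf, hf1⟩ := (Subgroup.bot_or_exists_ne_one F).resolve_left (hr F hF)
  obtain ⟨g, hg⟩ := hM.noncentral f ((mem_om_iff hM.toHyp).1 (hF.1 hf)) hf1
  intro htop
  have hgm : g ∈ centralizer (F : Set G) := htop ▸ mem_top g
  exact hg (mem_centralizer_iff.1 hgm f hf).symm

include hM in
theorem le_centralizer {F : Subgroup G} (hF : IsHyp p H F) : H ≤ centralizer (F : Set G) :=
  fun _ hx => mem_centralizer_iff.2 fun f hf =>
    (commute_H hM.toHyp (om_le hM.toHyp (hF.1 hf)) hx).eq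

include hM in
theorem centralizer_oc_normalized {F : Subgroup G} (hF : IsHyp p H F) :
    ∀ e, Om p H e → ∀ y ∈ oc p (centralizer (F : Set G)),
      e * y * e⁻¹ ∈ oc p (centralizer (F : Set G)) :=
  fun _ he _ hy => oc_conj (le_centralizer hM hF he.1) hy

include hM hr in
theorem local_form {F : Subgroup G} (hF : IsHyp p H F) {x : G}
    (hx : ∀ f ∈ F, Commute x f) (hxt : Triv p H x) :
    ∃ c, (∀ e, Om p H e → Commute c e) ∧ c ∈ centralizer (F : Set G) ∧
      ∃ o ∈ oc p (centralizer (F : Set G)), x = c * o := by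
  set L := centralizer (F : Set G)
  have hxL : x ∈ L := mem_centralizer_iff.2 fun f hf => (hx f hf).eq.symm
  obtain ⟨n, hn, o, ho, hnL, rfl⟩ :=
    hM.loc L (centralizer_ne_top hM hr hF) (le_centralizer hM hF) x hxL
  have hno : n * o * n⁻¹ ∈ oc p L := oc_conj hnL ho
  refine ⟨n, fun e he => ?_, hnL, o, ho, rfl⟩
  refine (fix_iff hM.toHyp oc_coprime (centralizer_oc_normalized hM hF) hno hn he).1 ?_
  rw [show n * o * n⁻¹ * n = n * o by group]
  exact hxt e he

include hM hr in
theorem gen_mul {F : Subgroup G} {x y : G} (hx : Gen p H F x) (hy : Gen p H F y) :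
    Gen p H F (x * y) := by
  have hF := hx.1
  refine ⟨hF, fun f hf => (hx.2.1 f hf).mul_left (hy.2.1 f hf), ?_⟩
  obtain ⟨c, hc, -, o, ho, rfl⟩ := local_form hM hr hF hx.2.1 hx.2.2
  obtain ⟨c', hc', hc'L, o', ho', rfl⟩ := local_form hM hr hF hy.2.1 hy.2.2
  have hmem : c'⁻¹ * o * c'⁻¹⁻¹ * o' ∈ oc p (centralizer (F : Set G)) :=
    mul_mem (oc_conj (inv_mem hc'L) ho) ho'
  intro e he
  rw [show c * o * (c' * o') = c * (c' * (c'⁻¹ * o * c'⁻¹⁻¹ * o')) by group,
    fix_mul_left (hc e he), fix_mul_left (hc' e he)]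
  exact triv_of_mem_coprime hM.toHyp oc_coprime (centralizer_oc_normalized hM hF) hmem e he

include hM in
theorem gen_of_mem {F R : Subgroup G} (hF : IsHyp p H F) (hR : (Nat.card R).Coprime p)
    (hn : ∀ e, Om p H e → ∀ y ∈ R, e * y * e⁻¹ ∈ R) {x : G} (hx : x ∈ R)
    (hxF : ∀ f ∈ F, Commute x f) : Gen p H F x :=
  ⟨hF, hxF, triv_of_mem_coprime hM.toHyp hR hn hx⟩

include hM hr in
/-- An element of an invariant `p'`-group in front of a word. -/
theorem prepend {k : ℕ} (hk : ∀ l : List (Subgroup G × G), l.length < k → Good p H l →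
      Triv p H (value l)) : ∀ j : ℕ, j + 1 < k → ∀ (R : Subgroup G), (Nat.card R).Coprime p →
    (∀ e, Om p H e → ∀ y ∈ R, e * y * e⁻¹ ∈ R) → ∀ o ∈ R, ∀ l : List (Subgroup G × G),
      l.length = j → Good p H l → Triv p H (o * value l) := by
  intro j
  induction j with
  | zero =>
    intro _ R hR hn o ho l hl _
    rw [List.length_eq_zero_iff.1 hl, show value ([] : List (Subgroup G × G)) = 1 from rfl, mul_one]
    exact triv_of_mem_coprime hM.toHyp hR hn ho
  | succ j ih =>
    intro hj R hR hn o ho l hl hgood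
    rcases List.eq_nil_or_concat l with rfl | ⟨l', q, rfl⟩
    · simp at hl
    simp only [List.concat_eq_append] at *
    simp only [List.length_append, List.length_cons, List.length_nil] at hl
    obtain ⟨F, x⟩ := q
    have hq : Gen p H F x := hgood (F, x) (by simp)
    have hl' : Good p H l' := fun r hr' => hgood r (List.mem_append.2 (Or.inl hr'))
    have hF := hq.1
    have hAR : om p H ≤ normalizer (R : Set G) := fun e he =>
      CfsgLib.Coprime.mem_normalizer_of_conj_map_le (hn e ((mem_om_iff hM.toHyp).1 he))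
    obtain ⟨E₀, hE₀, hE₀F⟩ := exists_other_hyp hM.toHyp hF (hr F hF)
    obtain ⟨z, hz, y, hy, rfl⟩ :=
      split (elementary_om hM.toHyp) hF.1 hF.2 ⟨E₀, hE₀.1, hE₀.2, hE₀F⟩ hR hAR o ho
    have hgy : Gen p H F y := gen_of_mem hM hF hR hn hy.1 fun f hf =>
      (mem_centralizer_iff.1 hy.2 f hf).symm
    set w := value (l' ++ [(F, x)]) with hw
    have hw' : w = value l' * x := by simp [hw, value]
    have hbase : Triv p H (y * w) := by
      have := hk ((F, y) :: (l' ++ [(F, x)])) (by simp; omega) (fun r hr' => by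
        rcases List.mem_cons.1 hr' with rfl | h
        exacts [hgy, hgood r h])
      simpa [value, hw'] using this
    have step : ∀ g a : G, g ∈ R → (∃ E, IsHyp p H E ∧ E ≠ F ∧ ∀ e ∈ E, Commute g e) → a ∈ R →
        Triv p H (a * (y * w)) → Triv p H (g * a * (y * w)) := by
      rintro g a hg ⟨E, hE, hEF, hgE⟩ ha hind
      refine triv_of_two_hyp hM.toHyp hE hF hEF (fun f hf => ?_) fun f hf => ?_
      · rw [mul_assoc, fix_mul_left (hgE f hf)]
        exact hind f ((mem_om_iff hM.toHyp).1 (hE.1 hf))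
      · rw [hw', show g * a * (y * (value l' * x)) = g * a * y * value l' * x by group,
          fix_mul_right (hq.2.1 f hf)]
        exact ih (by omega) R hR hn _ (mul_mem (mul_mem hg ha) hy.1) l' (by omega) hl' f
          ((mem_om_iff hM.toHyp).1 (hF.1 hf))
    suffices h : Triv p H (z * (y * w)) by rw [mul_assoc]; exact h
    refine closure_induction_left (p := fun a _ => Triv p H (a * (y * w))) ?_ ?_ ?_ hz
    · rwa [one_mul]
    · rintro g ⟨hgR, E, hEA, hEi, hEF, hgE⟩ a ha hind
      exact step g a hgR ⟨E, ⟨hEA, hEi⟩, hEF, hgE⟩ (otherGen_le R ha) hind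
    · rintro g ⟨hgR, E, hEA, hEi, hEF, hgE⟩ a ha hind
      exact step g⁻¹ a (inv_mem hgR) ⟨E, ⟨hEA, hEi⟩, hEF, fun e he => (hgE e he).inv_left⟩
        (otherGen_le R ha) hind

include hM hr in
theorem triv_value : ∀ (k : ℕ) (l : List (Subgroup G × G)), l.length = k → Good p H l →
    Triv p H (value l) := by
  intro k
  induction k using Nat.strong_induction_on with
  | _ k IH =>
    intro l hlen hgood
    rcases l with _ | ⟨a, l⟩
    · exact fun e _ => by simpa [value] using fix_one (p := p) e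
    have ha := hgood a (List.mem_cons_self ..)
    rcases List.eq_nil_or_concat l with rfl | ⟨mid, q, rfl⟩
    · simpa [value] using ha.2.2
    simp only [List.concat_eq_append] at *
    simp only [List.length_cons, List.length_append, List.length_nil] at hlen
    have hq := hgood q (by simp)
    have hmid : ∀ r ∈ mid, Gen p H r.1 r.2 := fun r hr' => hgood r (by simp [hr'])
    have hsuf : Triv p H (value (mid ++ [q])) :=
      IH (mid.length + 1) (by omega) (mid ++ [q]) (by simp) fun r hr' =>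
        hgood r (List.mem_cons_of_mem _ hr')
    by_cases hne : a.1 ≠ q.1
    · refine triv_of_two_hyp hM.toHyp ha.1 hq.1 hne (fun f hf => ?_) fun f hf => ?_
      · rw [show value (a :: (mid ++ [q])) = a.2 * value (mid ++ [q]) by simp [value],
          fix_mul_left (ha.2.1 f hf)]
        exact hsuf f ((mem_om_iff hM.toHyp).1 (ha.1.1 hf))
      · rw [show value (a :: (mid ++ [q])) = value (a :: mid) * q.2 by simp [value, mul_assoc],
          fix_mul_right (hq.2.1 f hf)]
        refine IH (mid.length + 1) (by omega) _ (by simp) ?_ f ((mem_om_iff hM.toHyp).1 (hq.1.1 hf))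
        intro r hr'
        rcases List.mem_cons.1 hr' with rfl | h
        exacts [ha, hmid r h]
    push Not at hne
    rcases mid with _ | ⟨s, rest⟩
    · have := gen_mul hM hr ha (hne ▸ hq : Gen p H a.1 q.2)
      simpa [value] using this.2.2
    simp only [List.length_cons] at hlen
    have hs := hmid s (List.mem_cons_self ..)
    have hrest : ∀ r ∈ rest, Gen p H r.1 r.2 := fun r hr' => hmid r (List.mem_cons_of_mem _ hr')
    by_cases hps : a.1 = s.1
    · have hmerge : Gen p H a.1 (a.2 * s.2) := gen_mul hM hr ha (hps ▸ hs)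
      have := IH (rest.length + 2) (by omega) ((a.1, a.2 * s.2) :: (rest ++ [q])) (by simp) (by
        intro r hr'
        rcases List.mem_cons.1 hr' with rfl | h
        · exact hmerge
        rcases List.mem_append.1 h with h | h
        · exact hrest r h
        · rw [List.mem_singleton.1 h]; exact hq)
      simpa [value, mul_assoc] using this
    have hxxt : Triv p H (a.2 * s.2) := by
      refine triv_of_two_hyp hM.toHyp ha.1 hs.1 hps (fun f hf => ?_) fun f hf => ?_
      · rw [fix_mul_left (ha.2.1 f hf)]; exact hs.2.2 f ((mem_om_iff hM.toHyp).1 (ha.1.1 hf))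
      · rw [fix_mul_right (hs.2.1 f hf)]; exact ha.2.2 f ((mem_om_iff hM.toHyp).1 (hs.1.1 hf))
    obtain ⟨o, ho, n, hn, hdec⟩ := decomp hM.toHyp (a.2 * s.2)
    have hnc : ∀ e, Om p H e → Commute n e := fun e he =>
      (fix_iff hM.toHyp oc_coprime (pair_normalized _) ho hn he).1 (hdec ▸ hxxt e he)
    set l₂ := (rest ++ [q]).map fun r => (r.1, n * r.2 * n⁻¹) with hl₂
    have hgood₂ : Good p H l₂ := by
      intro r hr'
      obtain ⟨t, ht, rfl⟩ := List.mem_map.1 hr'
      have hg : Gen p H t.1 t.2 := by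
        rcases List.mem_append.1 ht with h | h
        · exact hrest t h
        · rw [List.mem_singleton.1 h]; exact hq
      refine ⟨hg.1, fun f hf => ?_, fun e he => ?_⟩
      · have hf' := hnc f ((mem_om_iff hM.toHyp).1 (hg.1.1 hf))
        exact (hf'.mul_left (hg.2.1 f hf)).mul_left hf'.inv_left
      · rw [fix_mul_right (hnc e he).inv_left, fix_mul_left (hnc e he)]
        exact hg.2.2 e he
    have h := prepend hM hr (k := k) (fun l' hl' hg' => IH l'.length hl' l' rfl hg')
      (rest.length + 1) (by omega) _ oc_coprime (pair_normalized _) o ho l₂ (by simp [hl₂]) hgood₂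
    intro e he
    rw [show value (a :: (s :: rest ++ [q])) = o * value l₂ * n by
      rw [hl₂, value_conj, show value (a :: (s :: rest ++ [q])) = a.2 * s.2 * value (rest ++ [q]) by
        simp [value, mul_assoc], hdec]
      group, fix_mul_right (hnc e he)]
    exact h e he

/-- The subgroup generated by the generators. -/
def gamma (p : ℕ) (H : Subgroup G) : Subgroup G := closure {x | ∃ F, Gen p H F x}

theorem triv_inv {g : G} (h : Triv p H g) : Triv p H g⁻¹ := fun e he => fix_inv (h e he)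

theorem exists_word {x : G} (hx : x ∈ gamma p H) : ∃ l, Good p H l ∧ value l = x := by
  induction hx using closure_induction with
  | mem x hx =>
    obtain ⟨F, hF⟩ := hx
    exact ⟨[(F, x)], by simpa [Good] using hF, by simp [value]⟩
  | one => exact ⟨[], by simp [Good], by simp [value]⟩
  | mul x y _ _ hx hy =>
    obtain ⟨l, hl, rfl⟩ := hx
    obtain ⟨m, hm, rfl⟩ := hy
    exact ⟨l ++ m, fun r hr' => (List.mem_append.1 hr').elim (hl r) (hm r), by simp [value]⟩
  | inv x _ hx =>
    obtain ⟨l, hl, rfl⟩ := hx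
    refine ⟨(l.map fun r => (r.1, r.2⁻¹)).reverse, fun r hr' => ?_, ?_⟩
    · rw [List.mem_reverse, List.mem_map] at hr'
      obtain ⟨t, ht, rfl⟩ := hr'
      exact ⟨(hl t ht).1, fun f hf => ((hl t ht).2.1 f hf).inv_left, triv_inv (hl t ht).2.2⟩
    · simp [value, List.prod_inv_reverse, List.map_reverse, List.map_map, Function.comp_def]

include hM in
theorem mem_gamma {R : Subgroup G} (hR : (Nat.card R).Coprime p)
    (hn : ∀ e, Om p H e → ∀ y ∈ R, e * y * e⁻¹ ∈ R) (hne : om p H ≠ ⊥) : R ≤ gamma p H := by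
  have hAR : om p H ≤ normalizer (R : Set G) := fun e he =>
    CfsgLib.Coprime.mem_normalizer_of_conj_map_le (hn e ((mem_om_iff hM.toHyp).1 he))
  refine (CfsgLib.Components.Signalizer.le_iSup_centralizer_relIndex (elementary_om hM.toHyp)
    le_rfl hne (hp.out.coprime_iff_not_dvd.1 hR.symm) hAR).trans (iSup_le fun D => ?_)
  obtain ⟨D, hDA, hDi⟩ := D
  rintro y ⟨hyR, hyD⟩
  exact subset_closure ⟨D, gen_of_mem hM ⟨hDA, hDi⟩ hR hn hyR fun f hf =>
    (mem_centralizer_iff.1 hyD f hf).symm⟩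

include hM hr in
/-- In a minimal configuration with `Ω₁(H)` not cyclic, `N(H)` centralizes `Ω₁(H)`. -/
theorem centralizes_of_rank : ∀ n ∈ normalizer (H : Set G), ∀ e, Om p H e → Commute n e := by
  intro n₀ hn₀ e₀ he₀
  by_cases hne : om p H = ⊥
  · rw [show e₀ = 1 from mem_bot.1 (hne ▸ (mem_om_iff hM.toHyp).2 he₀)]
    exact Commute.one_right n₀
  set N := normalizer (H : Set G) with hN
  have hgG : ∀ g : G, ∃ o ∈ gamma p H, ∃ n ∈ N, g = o * n := by
    intro g
    obtain ⟨o, ho, n, hn, rfl⟩ := decomp hM.toHyp g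
    exact ⟨o, mem_gamma hM oc_coprime (pair_normalized _) hne ho, n, hn, rfl⟩
  have hNΓ : ∀ n ∈ N, ∀ x ∈ gamma p H, n * x * n⁻¹ ∈ gamma p H := by
    intro n hn x hx
    have hle : gamma p H ≤ (gamma p H).comap (MulAut.conj n).toMonoidHom := by
      refine (closure_le _).2 ?_
      rintro y ⟨F, hF, hyF, hyt⟩
      refine subset_closure ⟨F.map (MulAut.conj n).toMonoidHom, ⟨?_, ?_⟩, ?_, ?_⟩
      · rintro _ ⟨f, hf, rfl⟩
        exact (mem_om_iff hM.toHyp).2 (((mem_om_iff hM.toHyp).1 (hF.1 hf)).conj hn)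
      · conv_lhs => rw [← mem_normalizer_iff_map_conj_eq.1 (le_normalizer_om hM.toHyp hn)]
        exact (relIndex_map_map_of_injective (f := (MulAut.conj n).toMonoidHom) _ _
          (MulAut.conj n).injective).trans hF.2
      · rintro _ ⟨f, hf, rfl⟩; exact (hyF f hf).map (MulAut.conj n).toMonoidHom
      · intro e he
        have h := hyt _ (by simpa using he.conj (inv_mem hn) : Om p H (n⁻¹ * e * n))
        rw [Fix, ← orderOf_conj_eq n] at h
        rw [Fix]
        convert h using 3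
        simp [mul_assoc]
    exact hle hx
  haveI hΓn : (gamma p H).Normal := ⟨fun x hx g => by
    obtain ⟨o, ho, n, hn, rfl⟩ := hgG g
    rw [show o * n * x * (o * n)⁻¹ = o * (n * x * n⁻¹) * o⁻¹ by group]
    exact mul_mem (mul_mem ho (hNΓ n hn x hx)) (inv_mem ho)⟩
  let CN : Subgroup G := N ⊓ centralizer {e | Om p H e}
  have hHCN : H ≤ CN := fun x hx =>
    ⟨le_normalizer hx, mem_centralizer_iff.2 fun e he => (commute_H hM.toHyp he.1 hx).eq⟩
  have hnormal : (gamma p H ⊔ CN).Normal := ⟨fun x hx g => by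
    obtain ⟨o, ho, n, hn, rfl⟩ := hgG g
    obtain ⟨γ, hγ, c, hc, rfl⟩ := mem_sup_of_normal_left.1 hx
    rw [show o * n * (γ * c) * (o * n)⁻¹ = o * (n * γ * n⁻¹) * (n * c * n⁻¹) * o⁻¹ by group]
    refine mul_mem (mul_mem (mul_mem (mem_sup_left ho) (mem_sup_left (hNΓ n hn γ hγ)))
      (mem_sup_right (mem_inf.2 ⟨mul_mem (mul_mem hn (mem_inf.1 hc).1) (inv_mem hn),
        mem_centralizer_iff.2 fun e he => ?_⟩)))
      (inv_mem (mem_sup_left ho))
    have h := mem_centralizer_iff.1 hc.2 (n⁻¹ * e * n) (by simpa using he.conj (inv_mem hn))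
    calc e * (n * c * n⁻¹) = n * ((n⁻¹ * e * n) * c) * n⁻¹ := by group
      _ = n * (c * (n⁻¹ * e * n)) * n⁻¹ := by rw [h]
      _ = n * c * n⁻¹ * e := by group⟩
  have htop := eq_top_of_normal hM hnormal (hHCN.trans le_sup_right)
  have hmem : n₀ ∈ gamma p H ⊔ CN := htop ▸ mem_top n₀
  obtain ⟨γ, hγ, c, hc, rfl⟩ := mem_sup_of_normal_left.1 hmem
  refine Commute.mul_left ?_ (mem_centralizer_iff.1 hc.2 e₀ he₀).symm
  have hγN : γ ∈ N := by
    have := mul_mem hn₀ (inv_mem hc.1)
    rwa [mul_inv_cancel_right] at this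
  obtain ⟨l, hl, rfl⟩ := exists_word hγ
  exact (fix_normalizer_iff hM.toHyp hγN he₀).1 (triv_value hM hr l.length l rfl hl e₀ he₀)

end CfsgLib.LocalEvenB.ExtremelyClosedOdd
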