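import Cfsg.Agent.Lib.LocalEvenB.ExtremelyClosedOdd.Triangles
import Cfsg.Agent.Lib.LocalEvenB.ExtremelyClosedOdd.Words
import Mathlib.GroupTheory.SpecificGroups.Cyclic
import Mathlib.Algebra.Order.BigOperators.Group.Finset

/-!
# The normalizer centralizes `Ω₁(H)` in a minimal configuration

For cyclic `Ω₁(H)` the triviality of the triangles shows that the action of the normalizer extends
to a homomorphism on the whole group.
-/

set_option autoImplicit false
set_option linter.unusedSectionVars false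

namespace CfsgLib.LocalEvenB.ExtremelyClosedOdd

open Subgroup

universe u

variable {G : Type u} [Group G] [Finite G] {p : ℕ} [hp : Fact p.Prime] {H : Subgroup G} {m : ℕ}

/-- An abelian group of prime power order with at most `q` solutions of `x ^ q = 1` is cyclic. -/
theorem isCyclic_of_card_roots {T : Type u} [CommGroup T] [Finite T] {q : ℕ} [Fact q.Prime]
    (hT : IsPGroup q T) (h : Nat.card {x : T // x ^ q = 1} ≤ q) : IsCyclic T := by
  classical
  haveI := Fintype.ofFinite T
  have key : ∀ k, (Finset.univ.filter fun x : T => x ^ q ^ k = 1).card ≤ q ^ k := by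
    intro k
    induction k with
    | zero => simp [Finset.card_le_one]
    | succ k ih =>
      rw [Nat.card_eq_fintype_card, Fintype.card_subtype] at h
      refine (Finset.card_le_mul_card_image (f := fun x : T => x ^ q) _ q fun b hb => ?_).trans
        (le_trans (Nat.mul_le_mul_left q (le_trans (Finset.card_le_card fun y hy => ?_) ih))
          (by rw [pow_succ']))
      · obtain ⟨a, -, rfl⟩ := Finset.mem_image.1 hb
        refine le_trans (Finset.card_le_card_of_injOn (fun x => x * a⁻¹) (fun x hx => ?_) ?_) h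
        · simp only [Finset.coe_filter, Set.mem_ofPred_eq, Finset.mem_filter] at hx
          simp [mul_pow, hx.2]
        · intro x _ y _ hxy; exact mul_right_cancel hxy
      · obtain ⟨a, ha, rfl⟩ := Finset.mem_image.1 hy
        simp only [Finset.mem_filter, Finset.mem_univ, true_and] at ha ⊢
        rw [← pow_mul, ← pow_succ', ha]
  obtain ⟨n, hn⟩ := hT.exists_card_eq
  refine IsCyclic.iff_exponent_eq_card.2 ?_
  obtain ⟨k, hk, hexp⟩ := (Nat.dvd_prime_pow (Fact.out : q.Prime)).1 (hn ▸ Group.exponent_dvd_nat_card (G := T))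
  refine le_antisymm (Nat.le_of_dvd Nat.card_pos Group.exponent_dvd_nat_card) ?_
  rw [hexp, Nat.card_eq_fintype_card, ← Finset.card_univ,
    show (Finset.univ : Finset T) = Finset.univ.filter (fun x : T => x ^ q ^ k = 1) from
      (Finset.filter_true_of_mem fun x _ => hexp ▸ Monoid.pow_exponent_eq_one x).symm]
  exact key k

/-- The component of `g` in the normalizer. -/
noncomputable def nn (p : ℕ) (H : Subgroup G) (g : G) : G := (mv p H (cj g H))⁻¹ * g

theorem nn_mem (hH : Hyp p H) (g : G) : nn p H g ∈ normalizer (H : Set G) := by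
  refine mem_normalizer_iff_map_conj_eq.2 ?_
  show cj (nn p H g) H = H
  have h := (mv_spec hH (IsCj.refl H) ((IsCj.refl H).conj g)).2
  rw [nn, ← cj_cj]
  conv_lhs => arg 2; rw [← h]
  rw [cj_cj, inv_mul_cancel, cj_one]

theorem nn_of_normalizer (hH : Hyp p H) {n : G} (hn : n ∈ normalizer (H : Set G)) :
    nn p H n = n := by
  rw [nn, show cj n H = H from mem_normalizer_iff_map_conj_eq.1 hn, mv_self hH (IsCj.refl H),
    inv_one, one_mul]

theorem commute_nn (hH : Cyc p m H) (hp2 : p ≠ 2) {h : G} (hh : zpowers h = H) (g1 g2 : G) :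
    Commute (nn p H (g1 * g2) * (nn p H g2)⁻¹ * (nn p H g1)⁻¹) (h ^ p ^ m) := by
  set u := h ^ p ^ m with hu
  have hHc := IsCj.refl H
  have hb := not_bad hH hp2 (⟨(h, cj g1 H, cj (g1 * g2) H), by
    rw [hh]; exact ⟨hHc, hHc.conj g1, hHc.conj (g1 * g2)⟩⟩ : Tri H)
  simp only [Bad, ne_eq, not_not, hh] at hb
  set o1 := mv p H (cj g1 H) with ho1
  set o2 := mv p H (cj g2 H) with ho2
  set o3 := mv p H (cj (g1 * g2) H) with ho3
  have hQS : mv p (cj g1 H) (cj (g1 * g2) H) = g1 * o2 * g1⁻¹ := by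
    rw [← cj_cj g1 g2 H, mv_conj hH.hyp hHc (hHc.conj g2)]
  have hSP : mv p (cj (g1 * g2) H) H = o3⁻¹ :=
    eq_inv_of_mul_eq_one_left (mv_symm hH.hyp hHc (hHc.conj (g1 * g2)))
  simp only [loop, ph, hQS, hSP, ← ho1] at hb
  have hx : nn p H (g1 * g2) * (nn p H g2)⁻¹ * (nn p H g1)⁻¹ = o3⁻¹ * (g1 * o2 * g1⁻¹) * o1 := by
    rw [nn, nn, nn, ← ho1, ← ho2, ← ho3]; group
  rw [hx]
  refine mul_inv_eq_iff_eq_mul.1 ?_
  refine Eq.trans ?_ hb
  rw [hu]
  group

/-- `Ω₁(H)` cyclic forces the normalizer to centralize it in a minimal configuration. -/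
theorem centralizes_of_cyclic (hM : Min p H) (hp2 : p ≠ 2) (hcard : Nat.card (om p H) = p) :
    ∀ n ∈ normalizer (H : Set G), ∀ e, Om p H e → Commute n e := by
  have hH := hM.toHyp
  haveI := hH.ab
  have hcyc : IsCyclic H := by
    letI : CommGroup H := { (inferInstance : Group H) with mul_comm := hH.ab.is_comm.comm }
    refine isCyclic_of_card_roots hH.pgroup ?_
    refine le_of_le_of_eq (Nat.card_le_card_of_injective
      (fun x : {x : H // x ^ p = 1} => (⟨(x.1 : G), (mem_om_iff hH).2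
        ⟨x.1.2, congrArg Subtype.val x.2⟩⟩ : om p H)) fun a b h => ?_) hcard
    exact Subtype.ext (Subtype.ext (congrArg (fun y : om p H => (y : G)) h))
  obtain ⟨⟨h, hhH⟩, hgen⟩ := hcyc.exists_generator
  have hh : zpowers h = H := by
    refine le_antisymm (zpowers_le.2 hhH) fun x hx => ?_
    obtain ⟨k, hk⟩ := mem_zpowers_iff.1 (hgen ⟨x, hx⟩)
    exact mem_zpowers_iff.2 ⟨k, congrArg Subtype.val hk⟩
  obtain ⟨j, hj⟩ := IsPGroup.iff_card.1 hH.pgroup
  obtain ⟨m, rfl⟩ : ∃ m, j = m + 1 := by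
    refine Nat.exists_eq_succ_of_ne_zero fun h0 => ?_
    have h1 := card_dvd_of_le (om_le hH)
    rw [hcard, hj, h0, pow_zero, Nat.dvd_one] at h1
    exact hp.out.ne_one h1
  have hC : Cyc p m H := ⟨hH, hj⟩
  have hgc : IsCj H (zpowers h) := hh.symm ▸ IsCj.refl H
  set u := h ^ p ^ m with hu
  have hord : orderOf u = p := hC.orderOf_top hgc
  have huO : Om p H u := ⟨pow_mem hhH _, by rw [← hord, pow_orderOf_eq_one]⟩
  have htop : ∀ e, Om p H e → ∃ k : ℤ, e = u ^ k := fun e he =>
    hC.mem_top hgc (hh.symm ▸ he.1) he.2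
  -- the action on `u`
  set f : G → G := fun g => nn p H g * u * (nn p H g)⁻¹ with hf
  have hfO : ∀ g, Om p H (f g) := fun g => huO.conj (nn_mem hH g)
  have hmul : ∀ g1 g2, f (g1 * g2) = nn p H g1 * f g2 * (nn p H g1)⁻¹ := by
    intro g1 g2
    set x := nn p H (g1 * g2) * (nn p H g2)⁻¹ * (nn p H g1)⁻¹ with hx
    have hxu : Commute x u := commute_nn hC hp2 hh g1 g2
    obtain ⟨k, hk⟩ := htop _ ((hfO g2).conj (nn_mem hH g1))
    have hxy : Commute x (nn p H g1 * f g2 * (nn p H g1)⁻¹) := hk ▸ hxu.zpow_right k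
    calc f (g1 * g2) = x * (nn p H g1 * f g2 * (nn p H g1)⁻¹) * x⁻¹ := by
          simp only [hf, hx]; group
      _ = _ := by rw [hxy.eq, mul_inv_cancel_right]
  have hone : nn p H 1 = 1 := nn_of_normalizer hH (one_mem _)
  have hf1 : f 1 = u := by simp [hf, hone]
  have hfix : ∀ g, f g = u → ∀ k : ℤ, nn p H g * u ^ k * (nn p H g)⁻¹ = u ^ k := fun g hg k => by
    rw [← conj_zpow]
    exact congrArg (· ^ k) hg
  let K : Subgroup G :=
    { carrier := {g | f g = u}
      one_mem' := hf1
      mul_mem' := fun {a b} ha hb => by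
        show f (a * b) = u
        rw [hmul, (hb : f b = u)]
        exact ha
      inv_mem' := fun {a} ha => by
        show f a⁻¹ = u
        obtain ⟨k, hk⟩ := htop _ (hfO a⁻¹)
        have h1 := hmul a a⁻¹
        rw [mul_inv_cancel, hf1, hk, hfix a ha k] at h1
        rw [hk, ← h1] }
  have hnormal : K.Normal := by
    refine ⟨fun x hx g => ?_⟩
    show f (g * x * g⁻¹) = u
    obtain ⟨k, hk⟩ := htop _ (hfO g⁻¹)
    have hgx : f (g * x) = f g := by rw [hmul, show f x = u from hx]
    rw [hmul, hk, ← conj_zpow, show nn p H (g * x) * u * (nn p H (g * x))⁻¹ = f g from hgx]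
    have h1 := hmul g g⁻¹
    rw [mul_inv_cancel, hf1, hk, ← conj_zpow] at h1
    exact h1.symm
  have hHK : H ≤ K := fun x hx => by
    show f x = u
    rw [hf]
    simp only [nn_of_normalizer hH (le_normalizer hx)]
    rw [(commute_H hH hx huO.1).eq, mul_inv_cancel_right]
  have hK := eq_top_of_normal hM hnormal hHK
  intro n hn e he
  have h1 : f n = u := (hK ▸ mem_top n : n ∈ K)
  obtain ⟨k, rfl⟩ := htop e he
  have h2 : Commute n u := by
    refine mul_inv_eq_iff_eq_mul.1 ?_
    simpa [hf, nn_of_normalizer hH hn] using h1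
  exact h2.zpow_right k

/-- In a minimal configuration `N(H)` centralizes `Ω₁(H)`. -/
theorem centralizes (hM : Min p H) (hp2 : p ≠ 2) :
    ∀ n ∈ normalizer (H : Set G), ∀ e, Om p H e → Commute n e := by
  by_cases hr : ∀ F, IsHyp p H F → F ≠ ⊥
  · exact centralizes_of_rank hM hr
  push Not at hr
  obtain ⟨F, hF, rfl⟩ := hr
  exact centralizes_of_cyclic hM hp2 (by rw [← relIndex_bot_left]; exact hF.2)

end CfsgLib.LocalEvenB.ExtremelyClosedOdd
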