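import Cfsg.Agent.S3020
import Cfsg.Agent.S3021
import Cfsg.Agent.Lib.Coprime.SchurZassenhaus
import Cfsg.Agent.Lib.Components.PComponents

/-!
# Extremely closed abelian `p`-subgroups: generalities

The decomposition of an element over the normalizer, the relation "`g` fixes `e` modulo a
`p'`-element", and the passage to subgroups and quotients.
-/

set_option autoImplicit false
set_option linter.unusedSectionVars false

namespace CfsgLib.LocalEvenB.ExtremelyClosedOdd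

open Subgroup

universe u

variable {G : Type u} [Group G]

/-- The `p'`-core of a subgroup, as a subgroup of the ambient group. -/
def oc (p : ℕ) (L : Subgroup G) : Subgroup G :=
  (Cfsg.pPrimeCore p ↥L).map L.subtype

/-- The join of `H` with a conjugate. -/
def pair (H : Subgroup G) (g : G) : Subgroup G := H ⊔ H.map (MulAut.conj g).toMonoidHom

/-- `e` is an element of `H` of exponent `p`. -/
def Om (p : ℕ) (H : Subgroup G) (e : G) : Prop := e ∈ H ∧ e ^ p = 1

/-- The elements of exponent `p` of `H`, as a subgroup. -/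
def om (p : ℕ) (H : Subgroup G) : Subgroup G := closure {e | Om p H e}

/-- The hypothesis: an extremely closed abelian `p`-subgroup. -/
structure Hyp (p : ℕ) (H : Subgroup G) : Prop where
  pgroup : IsPGroup p H
  ab : IsMulCommutative H
  closed : Cfsg.IsExtremelyClosed H

/-- A minimal configuration. -/
structure Min (p : ℕ) (H : Subgroup G) : Prop extends Hyp p H where
  ne : normalizer (H : Set G) ≠ ⊤
  core_bot : ∀ R : Subgroup G, R.Normal → (Nat.card R).Coprime p → R = ⊥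
  loc : ∀ L : Subgroup G, L ≠ ⊤ → H ≤ L → ∀ x ∈ L,
    ∃ n ∈ normalizer (H : Set G), ∃ o ∈ oc p L, n ∈ L ∧ x = n * o
  noncentral : ∀ e, Om p H e → e ≠ 1 → ∃ g, g * e ≠ e * g

/-- Conjugation by `g` agrees with the identity at `e` up to an element of order prime to `p`. -/
def Fix (p : ℕ) (g e : G) : Prop := ¬ p ∣ orderOf (e⁻¹ * (g * e * g⁻¹))

/-- `g` fixes all elements of exponent `p` of `H`. -/
def Triv (p : ℕ) (H : Subgroup G) (g : G) : Prop := ∀ e, Om p H e → Fix p g e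

theorem orderOf_conj_eq (g x : G) : orderOf (g * x * g⁻¹) = orderOf x :=
  orderOf_injective (MulAut.conj g).toMonoidHom (MulAut.conj g).injective x

section Core

variable [Finite G] {p : ℕ} [hp : Fact p.Prime] {L : Subgroup G}

theorem oc_le : oc p L ≤ L := map_subtype_le _

theorem oc_coprime : (Nat.card (oc p L)).Coprime p := by
  rw [oc, card_map_of_injective L.subtype_injective]
  exact CfsgLib.Solvable.Cores.coprime_card_pPrimeCore p

theorem not_dvd_orderOf {R : Subgroup G} (hR : (Nat.card R).Coprime p) {x : G} (hx : x ∈ R) :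
    ¬ p ∣ orderOf x :=
  hp.out.coprime_iff_not_dvd.1 ((hR.coprime_dvd_left (R.orderOf_dvd_natCard hx)).symm)

theorem eq_one_of_pow {R : Subgroup G} (hR : (Nat.card R).Coprime p) {x : G} (hx : x ∈ R) {k : ℕ}
    (hk : x ^ p ^ k = 1) : x = 1 :=
  orderOf_eq_one_iff.1 (Nat.Coprime.eq_one_of_dvd
    ((hR.coprime_dvd_left (R.orderOf_dvd_natCard hx)).pow_right k) (orderOf_dvd_of_pow_eq_one hk))

theorem oc_conj {x y : G} (hx : x ∈ L) (hy : y ∈ oc p L) : x * y * x⁻¹ ∈ oc p L := by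
  obtain ⟨z, hz, rfl⟩ := hy
  exact ⟨⟨x, hx⟩ * z * ⟨x, hx⟩⁻¹,
    (CfsgLib.Solvable.Cores.pPrimeCore_normal (G := L) p).conj_mem z hz _, rfl⟩

theorem le_normalizer_oc : L ≤ normalizer (oc p L : Set G) :=
  le_normalizer_iff.2 fun _ hx _ hy => oc_conj hx hy

theorem le_oc {R : Subgroup G} (hRL : R ≤ L) (hR : (Nat.card R).Coprime p)
    (hn : ∀ x ∈ L, ∀ y ∈ R, x * y * x⁻¹ ∈ R) : R ≤ oc p L := by
  haveI : (R.subgroupOf L).Normal := ⟨fun y hy x => hn x x.2 y hy⟩
  have hle : R.subgroupOf L ≤ Cfsg.pPrimeCore p ↥L := CfsgLib.Solvable.Cores.le_pPrimeCore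
    (by rwa [Nat.card_congr (subgroupOfEquivOfLe hRL).toEquiv])
  exact fun y hy => ⟨⟨y, hRL hy⟩, hle hy, rfl⟩

theorem oc_normalized {m : G} (hm : m ∈ normalizer (L : Set G)) :
    m ∈ normalizer (oc p L : Set G) := by
  refine CfsgLib.Coprime.mem_normalizer_of_conj_map_le fun y hy => ?_
  refine le_oc (R := (oc p L).map (MulAut.conj m).toMonoidHom) ?_ ?_ ?_ ⟨y, hy, rfl⟩
  · rintro _ ⟨w, hw, rfl⟩
    exact (mem_normalizer_iff.1 hm w).1 (oc_le hw)
  · rw [card_map_of_injective (MulAut.conj m).injective]; exact oc_coprime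
  · rintro x hx _ ⟨w, hw, rfl⟩
    refine ⟨(m⁻¹ * x * m) * w * (m⁻¹ * x * m)⁻¹, oc_conj ?_ hw, by simp [mul_assoc]⟩
    exact (mem_normalizer_iff''.1 hm x).1 hx

/-- An element of order prime to `p` in a product of a `p`-group and a `p'`-group normalized by it
lies in the latter. -/
theorem mem_of_coprime_orderOf {A O : Subgroup G} (hA : IsPGroup p A)
    (hAO : A ≤ normalizer (O : Set G)) {x : G} (hx : x ∈ A ⊔ O) (hcop : ¬ p ∣ orderOf x) :
    x ∈ O := by
  rw [sup_comm, CfsgLib.Coprime.mem_sup_of_le_normalizer hAO] at hx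
  obtain ⟨o, ho, a, ha, rfl⟩ := hx
  obtain ⟨k, hk⟩ := hA ⟨a, ha⟩
  have hk' : a ^ p ^ k = 1 := congrArg Subtype.val hk
  have key : ∀ j : ℕ, (o * a) ^ j * (a ^ j)⁻¹ ∈ O := by
    intro j
    induction j with
    | zero => simp
    | succ j ih =>
      rw [pow_succ', pow_succ' a,
        show o * a * (o * a) ^ j * (a * a ^ j)⁻¹ = o * (a * ((o * a) ^ j * (a ^ j)⁻¹) * a⁻¹) by group]
      exact mul_mem ho ((mem_normalizer_iff.1 (hAO ha) _).1 ih)
  have h1 : (o * a) ^ p ^ k ∈ O := by simpa [hk'] using key (p ^ k)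
  exact CfsgLib.Components.mem_of_coprime_pows
    (Nat.Coprime.pow_left k (hp.out.coprime_iff_not_dvd.2 hcop)) h1
    (by rw [pow_orderOf_eq_one]; exact one_mem O)

/-- An element of `x K` is conjugate under `K` to a product of `x` and an element of `C_K(x)`. -/
theorem exists_conj_coset {K : Subgroup G} (hK : (Nat.card K).Coprime p) {x w : G} {m : ℕ}
    (hx : orderOf x = p ^ m) (hxK : x ∈ normalizer (K : Set G)) (hw : x⁻¹ * w ∈ K) :
    ∃ h ∈ K, ∃ y ∈ K, Commute y x ∧ h * w * h⁻¹ = x * y := by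
  have hcop : (Nat.card K).Coprime (p ^ m) := hK.pow_right m
  obtain ⟨n, hn0, hn1⟩ : ∃ n : ℕ, n ≡ 0 [MOD Nat.card K] ∧ n ≡ 1 [MOD p ^ m] :=
    ⟨_, (Nat.chineseRemainder hcop 0 1).2⟩
  have key : ∀ j : ℕ, (x ^ j)⁻¹ * w ^ j ∈ K := by
    intro j
    induction j with
    | zero => simp
    | succ j ih =>
      rw [show (x ^ (j + 1))⁻¹ * w ^ (j + 1) = x⁻¹ * ((x ^ j)⁻¹ * w ^ j) * x⁻¹⁻¹ * (x⁻¹ * w) by
        rw [pow_succ, pow_succ]; group]
      exact mul_mem ((mem_normalizer_iff.1 (inv_mem hxK) _).1 ih) hw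
  set wp := w ^ n with hwp
  have hxn : x ^ n = x := by
    conv_rhs => rw [← pow_one x]
    rw [pow_eq_pow_iff_modEq, hx]
    exact hn1
  have hwpK : x⁻¹ * wp ∈ K := by simpa [hxn] using key n
  have hwp1 : wp ^ p ^ m = 1 := by
    have h1 : w ^ p ^ m ∈ K := by
      have h2 := key (p ^ m)
      rwa [← hx, pow_orderOf_eq_one, inv_one, one_mul, hx] at h2
    obtain ⟨t, ht⟩ := Nat.modEq_zero_iff_dvd.1 hn0
    rw [hwp, ← pow_mul, mul_comm, pow_mul, ht, pow_mul]
    have h3 : (⟨w ^ p ^ m, h1⟩ : K) ^ Nat.card K = 1 := pow_card_eq_one'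
    rw [show (w ^ p ^ m) ^ Nat.card K = 1 from congrArg Subtype.val h3, one_pow]
  have hdisj : ∀ z ∈ zpowers x, z ∈ K → z = 1 := by
    intro z hz hzK
    obtain ⟨i, rfl⟩ := mem_zpowers_iff.1 hz
    refine eq_one_of_pow hK hzK (k := m) ?_
    rw [← zpow_natCast, ← zpow_mul, mul_comm, zpow_mul, zpow_natCast, ← hx, pow_orderOf_eq_one,
      one_zpow]
  have horder : orderOf wp = p ^ m := by
    refine Nat.dvd_antisymm (orderOf_dvd_of_pow_eq_one hwp1) (hx ▸ orderOf_dvd_of_pow_eq_one ?_)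
    refine hdisj _ (pow_mem (mem_zpowers x) _) ?_
    have h4 := key (n * orderOf wp)
    rw [pow_mul, pow_mul, hxn, ← hwp, pow_orderOf_eq_one, mul_one, inv_mem_iff] at h4
    exact h4
  have hwpN : wp ∈ normalizer (K : Set G) := by
    rw [show wp = x * (x⁻¹ * wp) by group]
    exact mul_mem hxK (le_normalizer hwpK)
  obtain ⟨h, hh, he⟩ := CfsgLib.Coprime.exists_conj_eq (N := K) (H := zpowers wp) (K := zpowers x)
    (Or.inr (CfsgLib.Coprime.isSolvable_zpowers wp)) (zpowers_le.2 hwpN) (zpowers_le.2 hxK)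
    (zpowers_le.2 (by
      rw [show wp = (x * (x⁻¹ * wp) * x⁻¹) * x by group]
      exact mul_mem_sup ((mem_normalizer_iff.1 hxK _).1 hwpK) (mem_zpowers x)))
    (by rw [Nat.card_zpowers, Nat.card_zpowers, horder, hx])
    (by rw [Nat.card_zpowers, horder]; exact hcop)
  have hconj : ∀ z, x⁻¹ * z ∈ K → x⁻¹ * (h * z * h⁻¹) ∈ K := fun z hz => by
    rw [show x⁻¹ * (h * z * h⁻¹) = x⁻¹ * h * x⁻¹⁻¹ * (x⁻¹ * z) * h⁻¹ by group]
    exact mul_mem (mul_mem ((mem_normalizer_iff.1 (inv_mem hxK) h).1 hh) hz) (inv_mem hh)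
  have hwx : h * wp * h⁻¹ = x := by
    have h5 : x⁻¹ * (h * wp * h⁻¹) = 1 :=
      hdisj _ (mul_mem (inv_mem (mem_zpowers x)) (he.le ⟨wp, mem_zpowers wp, rfl⟩)) (hconj wp hwpK)
    rw [inv_mul_eq_one] at h5
    exact h5.symm
  refine ⟨h, hh, x⁻¹ * (h * w * h⁻¹), hconj w hw, ?_, by group⟩
  have hcw : Commute (h * w * h⁻¹) (h * wp * h⁻¹) :=
    ((Commute.refl w).pow_right n).map (MulAut.conj h).toMonoidHom
  rw [hwx] at hcw
  exact ((Commute.refl x).inv_left).mul_left hcw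

end Core

section Setting

variable [Finite G] {p : ℕ} [hp : Fact p.Prime] {H : Subgroup G}

omit [Finite G] in
theorem commute_H (hH : Hyp p H) {x y : G} (hx : x ∈ H) (hy : y ∈ H) : Commute x y :=
  congrArg Subtype.val (hH.ab.is_comm.comm (⟨x, hx⟩ : H) ⟨y, hy⟩)

omit [Finite G] in
theorem mem_om_iff (hH : Hyp p H) {e : G} : e ∈ om p H ↔ Om p H e := by
  refine ⟨fun he => ?_, fun he => subset_closure he⟩
  induction he using closure_induction with
  | mem x hx => exact hx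
  | one => exact ⟨one_mem H, one_pow p⟩
  | mul x y _ _ hx hy =>
    exact ⟨mul_mem hx.1 hy.1, by rw [(commute_H hH hx.1 hy.1).mul_pow, hx.2, hy.2, one_mul]⟩
  | inv x _ hx => exact ⟨inv_mem hx.1, by rw [inv_pow, hx.2, inv_one]⟩

omit [Finite G] in
theorem om_le (hH : Hyp p H) : om p H ≤ H := fun _ he => ((mem_om_iff hH).1 he).1

omit [Finite G] in
theorem elementary_om (hH : Hyp p H) : Cfsg.IsElementaryAbelian p (om p H) :=
  ⟨⟨⟨fun a b => Subtype.ext (commute_H hH (om_le hH a.2) (om_le hH b.2)).eq⟩⟩,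
    fun _ ha => ((mem_om_iff hH).1 ha).2⟩

omit [Finite G] in
theorem Om.conj {e : G} (he : Om p H e) {n : G} (hn : n ∈ normalizer (H : Set G)) :
    Om p H (n * e * n⁻¹) :=
  ⟨(mem_normalizer_iff.1 hn e).1 he.1, by rw [conj_pow, he.2]; group⟩

omit [Finite G] in
theorem le_normalizer_om (hH : Hyp p H) :
    normalizer (H : Set G) ≤ normalizer (om p H : Set G) :=
  le_normalizer_iff.2 fun _ hn _ he => (mem_om_iff hH).2 (((mem_om_iff hH).1 he).conj hn)

theorem decomp (hH : Hyp p H) (g : G) :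
    ∃ o ∈ oc p (pair H g), ∃ n ∈ normalizer (H : Set G), g = o * n := by
  obtain ⟨h1, h2⟩ := Cfsg.Agent.S3020.result H hH.pgroup hH.ab hH.closed g (pair H g) rfl
  set T := pair H g with hT
  change H ⊔ oc p T = T at h1
  change H ⊓ oc p T = ⊥ at h2
  set K := oc p T
  set Hg := H.map (MulAut.conj g).toMonoidHom
  have hHT : H ≤ T := le_sup_left
  have hgT : Hg ≤ T := le_sup_right
  haveI := hH.ab
  have hHK : H ≤ normalizer (K : Set G) := hHT.trans le_normalizer_oc
  have hgK : Hg ≤ normalizer (K : Set G) := hgT.trans le_normalizer_oc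
  have hpg : IsPGroup p Hg := hH.pgroup.map _
  have hcardT : Nat.card T = Nat.card K * Nat.card H := by
    rw [← CfsgLib.Coprime.card_sup_of_le_normalizer hHK (disjoint_iff.2 (by rw [inf_comm, h2])),
      sup_comm, h1]
  have hd : Disjoint K Hg := by
    rw [disjoint_iff, inf_comm]
    exact CfsgLib.Fusion.Basic.inf_eq_bot_of_coprime hpg oc_coprime
  have hKT : K ⊔ Hg = T := by
    refine eq_of_le_of_card_ge (sup_le oc_le hgT) ?_
    rw [CfsgLib.Coprime.card_sup_of_le_normalizer hgK hd, CfsgLib.Coprime.card_conj_map, hcardT]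
  obtain ⟨k, hk⟩ := IsPGroup.iff_card.1 hH.pgroup
  obtain ⟨o, ho, he⟩ := CfsgLib.Coprime.exists_conj_eq (N := K) (H := H) (K := Hg)
    (Or.inr (Group.isSolvable_of_comm fun a b : H => hH.ab.is_comm.comm a b)) hHK hgK
    (hKT.symm ▸ hHT) (CfsgLib.Coprime.card_conj_map H g).symm
    (by rw [hk]; exact oc_coprime.pow_right k)
  refine ⟨o, ho, o⁻¹ * g, mem_normalizer_iff_map_conj_eq.2 ?_, by group⟩
  show H.map (MulAut.conj (o⁻¹ * g)).toMonoidHom = H
  rw [← CfsgLib.Coprime.conj_map_map,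
    ← show H.map (MulAut.conj o).toMonoidHom = H.map (MulAut.conj g).toMonoidHom from he,
    CfsgLib.Coprime.conj_map_map, inv_mul_cancel]
  ext x; simp

theorem pair_normalized (g : G) :
    ∀ e, Om p H e → ∀ y ∈ oc p (pair H g), e * y * e⁻¹ ∈ oc p (pair H g) :=
  fun _ he _ hy => oc_conj (mem_sup_left he.1) hy

theorem inf_normalizer_eq_one (hH : Hyp p H) (g : G) {x : G} (hx : x ∈ oc p (pair H g))
    (hn : x ∈ normalizer (H : Set G)) : x = 1 := by
  obtain ⟨k, hk⟩ := hH.pgroup ⟨x, (hH.closed g).le ⟨oc_le hx, hn⟩⟩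
  exact eq_one_of_pow oc_coprime hx (k := k) (congrArg Subtype.val hk)

theorem fix_one (e : G) : Fix p (1 : G) e := by
  rw [Fix, one_mul, inv_one, mul_one, inv_mul_cancel, orderOf_one]
  exact hp.out.not_dvd_one

theorem fix_mul_right {g c e : G} (h : Commute c e) : Fix p (g * c) e ↔ Fix p g e := by
  rw [Fix, Fix, show g * c * e * (g * c)⁻¹ = g * (c * e * c⁻¹) * g⁻¹ by group,
    show c * e * c⁻¹ = e by rw [h.eq, mul_inv_cancel_right]]

theorem fix_mul_left {g c e : G} (h : Commute c e) : Fix p (c * g) e ↔ Fix p g e := by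
  rw [Fix, Fix, ← orderOf_conj_eq c (e⁻¹ * (g * e * g⁻¹)),
    show c * (e⁻¹ * (g * e * g⁻¹)) * c⁻¹ = (c * e * c⁻¹)⁻¹ * (c * g * e * (c * g)⁻¹) by group,
    show c * e * c⁻¹ = e by rw [h.eq, mul_inv_cancel_right]]

theorem fix_inv {g e : G} (h : Fix p g e) : Fix p g⁻¹ e := by
  rw [Fix] at h ⊢
  rwa [← orderOf_conj_eq g, ← orderOf_inv,
    show (g * (e⁻¹ * (g⁻¹ * e * g⁻¹⁻¹)) * g⁻¹)⁻¹ = e⁻¹ * (g * e * g⁻¹) by group]

theorem fix_iff (hH : Hyp p H) {R : Subgroup G} (hR : (Nat.card R).Coprime p)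
    (hn : ∀ e, Om p H e → ∀ y ∈ R, e * y * e⁻¹ ∈ R) {o n : G} (ho : o ∈ R)
    (hnN : n ∈ normalizer (H : Set G)) {e : G} (he : Om p H e) :
    Fix p (o * n) e ↔ Commute n e := by
  set e' := n * e * n⁻¹ with he'
  have hee : Om p H e' := he.conj hnN
  set h := e⁻¹ * e' with hh
  have hhO : Om p H h :=
    (mem_om_iff hH).1 (mul_mem (inv_mem ((mem_om_iff hH).2 he)) ((mem_om_iff hH).2 hee))
  have hei : Om p H e'⁻¹ := (mem_om_iff hH).1 (inv_mem ((mem_om_iff hH).2 hee))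
  set o' := e'⁻¹ * o * e'⁻¹⁻¹ * o⁻¹ with ho'
  have ho'R : o' ∈ R := mul_mem (hn _ hei o ho) (inv_mem ho)
  have heq : e⁻¹ * (o * n * e * (o * n)⁻¹) = h * o' := by
    rw [hh, ho', he']; group
  rw [Fix, heq]
  constructor
  · intro hord
    have hpg : IsPGroup p (zpowers h) := by
      intro x
      obtain ⟨i, hi⟩ := mem_zpowers_iff.1 x.2
      refine ⟨1, Subtype.ext ?_⟩
      rw [pow_one, SubgroupClass.coe_pow, ← hi, OneMemClass.coe_one, ← zpow_natCast, ← zpow_mul,
        mul_comm, zpow_mul, zpow_natCast, hhO.2, one_zpow]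
    have hnh : zpowers h ≤ normalizer (R : Set G) :=
      zpowers_le.2 (CfsgLib.Coprime.mem_normalizer_of_conj_map_le (hn h hhO))
    have h2 : h * o' ∈ R :=
      mem_of_coprime_orderOf hpg hnh (mul_mem_sup (mem_zpowers h) ho'R) hord
    have h3 : h = 1 := eq_one_of_pow hR ((mul_mem_cancel_right ho'R).1 h2) (k := 1)
      (by rw [pow_one]; exact hhO.2)
    rw [hh, inv_mul_eq_one] at h3
    exact (mul_inv_eq_iff_eq_mul.1 h3.symm)
  · intro hc
    have h1 : e' = e := by rw [he', hc.eq, mul_inv_cancel_right]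
    rw [hh, h1, inv_mul_cancel, one_mul]
    exact not_dvd_orderOf hR ho'R

theorem fix_normalizer_iff (hH : Hyp p H) {n e : G} (hn : n ∈ normalizer (H : Set G))
    (he : Om p H e) : Fix p n e ↔ Commute n e := by
  have h := fix_iff hH (R := ⊥) (by simp) (fun v _ y hy => by simp [mem_bot.1 hy]) (one_mem _) hn he
  rwa [one_mul] at h

theorem triv_of_mem_coprime (hH : Hyp p H) {R : Subgroup G} (hR : (Nat.card R).Coprime p)
    (hn : ∀ e, Om p H e → ∀ y ∈ R, e * y * e⁻¹ ∈ R) {o : G} (ho : o ∈ R) : Triv p H o := by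
  intro e he
  have h := fix_iff hH hR hn ho (one_mem _) he
  rw [mul_one] at h
  exact h.2 (Commute.one_left e)

theorem fix_mul (hH : Hyp p H) {g e f : G} (he : Om p H e) (hf : Om p H f) (h1 : Fix p g e)
    (h2 : Fix p g f) : Fix p g (e * f) := by
  obtain ⟨o, ho, n, hn, rfl⟩ := decomp hH g
  rw [fix_iff hH oc_coprime (pair_normalized _) ho hn he] at h1
  rw [fix_iff hH oc_coprime (pair_normalized _) ho hn hf] at h2
  have hef : Om p H (e * f) :=
    (mem_om_iff hH).1 (mul_mem ((mem_om_iff hH).2 he) ((mem_om_iff hH).2 hf))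
  rw [fix_iff hH oc_coprime (pair_normalized _) ho hn hef]
  exact h1.mul_right h2

/-- A proper normal subgroup cannot contain `H`. -/
theorem eq_top_of_normal (hM : Min p H) {L : Subgroup G} (hL : L.Normal) (hHL : H ≤ L) :
    L = ⊤ := by
  by_contra hne
  have hocn : (oc p L).Normal := ⟨fun y hy g =>
    (mem_normalizer_iff.1 (oc_normalized (L := L)
      (by rw [normalizer_eq_top_iff.2 hL]; exact mem_top g)) y).1 hy⟩
  have hbot := hM.core_bot _ hocn oc_coprime
  have hLN : L ≤ normalizer (H : Set G) := by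
    intro x hx
    obtain ⟨n, hn, o, ho, -, rfl⟩ := hM.loc L hne hHL x hx
    rw [hbot, mem_bot] at ho
    rwa [ho, mul_one]
  refine hM.ne (eq_top_iff.2 fun g _ => ?_)
  refine CfsgLib.Coprime.mem_normalizer_of_conj_map_le fun x hx => ?_
  exact (hM.closed g).le ⟨mem_sup_right ⟨x, hx, rfl⟩, hLN (hL.conj_mem x (hHL hx) g)⟩

end Setting

section Induction

variable [Finite G] {p : ℕ} [hp : Fact p.Prime] {H : Subgroup G}

/-- An element normalizing the image of `H` decomposes over `H ⊔ Q`. -/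
theorem decomp_quotient (hH : Hyp p H) (Q : Subgroup G) [Q.Normal] {k : G}
    (hk : QuotientGroup.mk' Q k ∈
      normalizer ((H.map (QuotientGroup.mk' Q) : Subgroup (G ⧸ Q)) : Set (G ⧸ Q))) :
    ∃ o ∈ oc p (pair H k), o ∈ H ⊔ Q ∧ ∃ n ∈ normalizer (H : Set G), k = o * n := by
  obtain ⟨o, ho, n, hn, hkn⟩ := decomp hH k
  refine ⟨o, ho, ?_, n, hn, hkn⟩
  have hle : pair H k ≤ H ⊔ Q := by
    refine sup_le le_sup_left ?_
    rintro _ ⟨x, hx, rfl⟩
    have h1 := (mem_normalizer_iff.1 hk _).1 ⟨x, hx, rfl⟩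
    rw [← map_inv, ← map_mul, ← map_mul] at h1
    have h2 : k * x * k⁻¹ ∈ (H.map (QuotientGroup.mk' Q)).comap (QuotientGroup.mk' Q) := h1
    rwa [comap_map_eq, QuotientGroup.ker_mk'] at h2
  exact hle (oc_le ho)

theorem hyp_quotient (hH : Hyp p H) (Q : Subgroup G) [Q.Normal] :
    Hyp p (H.map (QuotientGroup.mk' Q)) := by
  set π := QuotientGroup.mk' Q
  refine ⟨hH.pgroup.map π, ⟨⟨fun x y => ?_⟩⟩, fun gb => ?_⟩
  · obtain ⟨_, a, ha, rfl⟩ := x
    obtain ⟨_, b, hb, rfl⟩ := y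
    refine Subtype.ext ?_
    change π a * π b = π b * π a
    rw [← map_mul, ← map_mul, (commute_H hH ha hb).eq]
  refine le_antisymm ?_ (le_inf le_sup_left le_normalizer)
  obtain ⟨g, rfl⟩ := QuotientGroup.mk'_surjective Q gb
  have hpair : H.map π ⊔ (H.map π).map (MulAut.conj (π g)).toMonoidHom = (pair H g).map π := by
    rw [pair, Subgroup.map_sup, map_map, map_map]
    congr 2
  intro xb hxb
  rw [hpair] at hxb
  obtain ⟨⟨k, hk, rfl⟩, hkN⟩ := hxb
  obtain ⟨o, ho, hoQ, n, hn, rfl⟩ := decomp_quotient hH Q hkN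
  have hle : pair H (o * n) ≤ pair H g := by
    refine sup_le le_sup_left ?_
    rintro _ ⟨x, hx, rfl⟩
    exact mul_mem (mul_mem hk (mem_sup_left hx)) (inv_mem hk)
  have hnH : n ∈ H := by
    refine (hH.closed g).le ⟨?_, hn⟩
    have := mul_mem (inv_mem (hle (oc_le ho))) hk
    rwa [inv_mul_cancel_left] at this
  have hmem : o * n ∈ H ⊔ Q := mul_mem hoQ (mem_sup_left hnH)
  have : π (o * n) ∈ (H ⊔ Q).map π := ⟨_, hmem, rfl⟩
  rwa [Subgroup.map_sup, show Q.map π = ⊥ from QuotientGroup.map_mk'_self Q, sup_bot_eq] at this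

theorem hyp_subgroupOf (hH : Hyp p H) {L : Subgroup G} (hL : H ≤ L) : Hyp p (H.subgroupOf L) := by
  refine ⟨hH.pgroup.of_equiv (subgroupOfEquivOfLe hL).symm,
    ⟨⟨fun x y => Subtype.ext (Subtype.ext (commute_H hH x.2 y.2).eq)⟩⟩, fun g => ?_⟩
  refine le_antisymm ?_ (le_inf le_sup_left le_normalizer)
  rintro x ⟨hx1, hx2⟩
  refine (hH.closed (g : G)).le ⟨?_, ?_⟩
  · have hle : (H.subgroupOf L ⊔ (H.subgroupOf L).map (MulAut.conj g).toMonoidHom).map L.subtype ≤
        pair H (g : G) := by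
      rw [Subgroup.map_sup]
      refine sup_le ?_ ?_
      · rintro _ ⟨y, hy, rfl⟩; exact mem_sup_left hy
      · rintro _ ⟨_, ⟨y, hy, rfl⟩, rfl⟩; exact mem_sup_right ⟨y, hy, rfl⟩
    exact hle ⟨x, hx1, rfl⟩
  · refine CfsgLib.Coprime.mem_normalizer_of_conj_map_le fun y hy => ?_
    exact (mem_normalizer_iff.1 hx2 ⟨y, hL hy⟩).1 hy

end Induction

end CfsgLib.LocalEvenB.ExtremelyClosedOdd
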