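import Cfsg.Agent.Lib.LocalEvenB.ExtremelyClosedOdd.Basic

/-!
# Pairs of conjugates of an extremely closed subgroup

For conjugates `A`, `B` of `H` a unique element of the `p'`-core of `A ⊔ B` carries `A` to `B`;
these elements compose inside the join of any two conjugates.
-/

set_option autoImplicit false
set_option linter.unusedSectionVars false

namespace CfsgLib.LocalEvenB.ExtremelyClosedOdd

open Subgroup

universe u

variable {G : Type u} [Group G]

/-- The conjugate of `A` by `g`. -/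
def cj (g : G) (A : Subgroup G) : Subgroup G := A.map (MulAut.conj g).toMonoidHom

/-- `A` is a conjugate of `H`. -/
def IsCj (H A : Subgroup G) : Prop := ∃ g : G, A = cj g H

theorem cj_cj (g g' : G) (A : Subgroup G) : cj g (cj g' A) = cj (g * g') A :=
  CfsgLib.Coprime.conj_map_map A g g'

theorem cj_one (A : Subgroup G) : cj 1 A = A := by
  rw [cj]; ext x; simp

theorem cj_zpowers (g x : G) : cj g (zpowers x) = zpowers (g * x * g⁻¹) := by
  rw [cj, MonoidHom.map_zpowers]; rfl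

theorem mem_cj {g x : G} {A : Subgroup G} (hx : x ∈ A) : g * x * g⁻¹ ∈ cj g A := ⟨x, hx, rfl⟩

theorem cj_eq_self {g : G} {A : Subgroup G} (hg : g ∈ A) : cj g A = A :=
  mem_normalizer_iff_map_conj_eq.1 (le_normalizer hg)

theorem IsCj.refl (H : Subgroup G) : IsCj H H := ⟨1, (cj_one H).symm⟩

theorem IsCj.conj {H A : Subgroup G} (hA : IsCj H A) (g : G) : IsCj H (cj g A) := by
  obtain ⟨g', rfl⟩ := hA
  exact ⟨g * g', cj_cj g g' H⟩

variable [Finite G] {p : ℕ} [hp : Fact p.Prime] {H : Subgroup G}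

theorem hyp_map (hH : Hyp p H) (f : G ≃* G) : Hyp p (H.map f.toMonoidHom) := by
  refine ⟨hH.pgroup.map _, ⟨⟨?_⟩⟩, fun x => ?_⟩
  · rintro ⟨_, a, ha, rfl⟩ ⟨_, b, hb, rfl⟩
    refine Subtype.ext ?_
    change f a * f b = f b * f a
    rw [← map_mul, ← map_mul, (commute_H hH ha hb).eq]
  · obtain ⟨g, rfl⟩ := f.surjective x
    have hpair : H.map f.toMonoidHom ⊔ (H.map f.toMonoidHom).map (MulAut.conj (f g)).toMonoidHom =
        (pair H g).map f.toMonoidHom := by
      rw [pair, Subgroup.map_sup, map_map, map_map]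
      congr 2
      ext y
      simp
    rw [hpair, ← map_equiv_normalizer_eq, ← map_inf _ _ f.toMonoidHom f.injective]
    exact congrArg (fun W => Subgroup.map f.toMonoidHom W) (hH.closed g)

theorem IsCj.hyp {A : Subgroup G} (hA : IsCj H A) (hH : Hyp p H) : Hyp p A := by
  obtain ⟨g, rfl⟩ := hA
  exact hyp_map hH (MulAut.conj g)

theorem IsCj.card_eq {A : Subgroup G} (hA : IsCj H A) : Nat.card A = Nat.card H := by
  obtain ⟨g, rfl⟩ := hA
  exact CfsgLib.Coprime.card_conj_map H g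

theorem IsCj.exists_cj {A B : Subgroup G} (hA : IsCj H A) (hB : IsCj H B) :
    ∃ g : G, B = cj g A := by
  obtain ⟨a, rfl⟩ := hA
  obtain ⟨b, rfl⟩ := hB
  exact ⟨b * a⁻¹, by rw [cj_cj, inv_mul_cancel_right]⟩

theorem exists_mv (hH : Hyp p H) {A B : Subgroup G} (hA : IsCj H A) (hB : IsCj H B) :
    ∃ k ∈ oc p (A ⊔ B), cj k A = B := by
  obtain ⟨g, rfl⟩ := hA.exists_cj hB
  obtain ⟨o, ho, n, hn, hg⟩ := decomp (hA.hyp hH) g
  refine ⟨o, ho, ?_⟩
  rw [hg, ← cj_cj o n A, show cj n A = A from mem_normalizer_iff_map_conj_eq.1 hn]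

theorem join_eq (hH : Hyp p H) {A B : Subgroup G} (hA : IsCj H A) (hB : IsCj H B) :
    A ⊔ oc p (A ⊔ B) = A ⊔ B := by
  obtain ⟨g, rfl⟩ := hA.exists_cj hB
  exact (Cfsg.Agent.S3020.result A (hA.hyp hH).pgroup (hA.hyp hH).ab (hA.hyp hH).closed g
    (A ⊔ cj g A) rfl).1

theorem oc_le_oc (hH : Hyp p H) {A B A' B' : Subgroup G} (hA : IsCj H A) (hB : IsCj H B)
    (hA' : A' ≤ A ⊔ B) (hB' : B' ≤ A ⊔ B) : oc p (A' ⊔ B') ≤ oc p (A ⊔ B) := fun x hx =>
  mem_of_coprime_orderOf (hA.hyp hH).pgroup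
    ((le_sup_left : A ≤ A ⊔ B).trans le_normalizer_oc)
    (by rw [join_eq hH hA hB]; exact sup_le hA' hB' (oc_le hx)) (not_dvd_orderOf oc_coprime hx)

theorem eq_one_of_fix (hH : Hyp p H) {A B : Subgroup G} (hA : IsCj H A) (hB : IsCj H B)
    {x : G} (hx : x ∈ oc p (A ⊔ B)) (hfix : cj x A = A) : x = 1 := by
  obtain ⟨g, rfl⟩ := hA.exists_cj hB
  exact inf_normalizer_eq_one (hA.hyp hH) g hx (mem_normalizer_iff_map_conj_eq.2 hfix)

theorem eq_one_of_fix' (hH : Hyp p H) {A B C : Subgroup G} (hA : IsCj H A) (hB : IsCj H B)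
    (hC : IsCj H C) (hCle : C ≤ A ⊔ B) {x : G} (hx : x ∈ oc p (A ⊔ B)) (hfix : cj x C = C) :
    x = 1 := by
  set K := oc p (A ⊔ B) with hK
  have hAT : A ≤ A ⊔ B := le_sup_left
  haveI := (hA.hyp hH).ab
  -- `C` is conjugate to `A` under `K`
  have hdA : Disjoint K A := by
    rw [disjoint_iff, inf_comm]
    exact CfsgLib.Fusion.Basic.inf_eq_bot_of_coprime (hA.hyp hH).pgroup oc_coprime
  have hdC : Disjoint K C := by
    rw [disjoint_iff, inf_comm]
    exact CfsgLib.Fusion.Basic.inf_eq_bot_of_coprime (hC.hyp hH).pgroup oc_coprime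
  have hAn : A ≤ normalizer (K : Set G) := hAT.trans le_normalizer_oc
  have hCn : C ≤ normalizer (K : Set G) := hCle.trans le_normalizer_oc
  have hKC : K ⊔ C = A ⊔ B := by
    refine eq_of_le_of_card_ge (sup_le oc_le hCle) ?_
    rw [CfsgLib.Coprime.card_sup_of_le_normalizer hCn hdC, hC.card_eq, ← hA.card_eq,
      ← CfsgLib.Coprime.card_sup_of_le_normalizer hAn hdA, sup_comm K A, hK, join_eq hH hA hB]
  obtain ⟨j, hj⟩ := IsPGroup.iff_card.1 (hA.hyp hH).pgroup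
  obtain ⟨k, hk, he⟩ := CfsgLib.Coprime.exists_conj_eq (N := K) (H := A) (K := C)
    (Or.inr (Group.isSolvable_of_comm fun a b : A => (hA.hyp hH).ab.is_comm.comm a b)) hAn hCn
    (hKC.symm ▸ hAT) (by rw [hA.card_eq, hC.card_eq]) (by rw [hj]; exact oc_coprime.pow_right j)
  have h1 : k⁻¹ * x * k = 1 := by
    refine eq_one_of_fix hH hA hB (mul_mem (mul_mem (inv_mem hk) hx) hk) ?_
    rw [← cj_cj, ← cj_cj, show cj k A = C from he, hfix, ← show cj k A = C from he, cj_cj,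
      inv_mul_cancel, cj_one]
  calc x = k * (k⁻¹ * x * k) * k⁻¹ := by group
    _ = 1 := by rw [h1]; group

open Classical in
/-- The element of the `p'`-core of `A ⊔ B` carrying `A` to `B`. -/
noncomputable def mv (p : ℕ) (A B : Subgroup G) : G :=
  if h : ∃ k ∈ oc p (A ⊔ B), cj k A = B then h.choose else 1

theorem mv_spec (hH : Hyp p H) {A B : Subgroup G} (hA : IsCj H A) (hB : IsCj H B) :
    mv p A B ∈ oc p (A ⊔ B) ∧ cj (mv p A B) A = B := by
  have h := exists_mv hH hA hB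
  rw [mv, dif_pos h]
  exact h.choose_spec

theorem mv_unique (hH : Hyp p H) {A B A' B' : Subgroup G} (hA : IsCj H A) (hB : IsCj H B)
    (hA' : IsCj H A') (hB' : IsCj H B') (hA'le : A' ≤ A ⊔ B) (hB'le : B' ≤ A ⊔ B) {x : G}
    (hx : x ∈ oc p (A ⊔ B)) (hfix : cj x A' = B') : mv p A' B' = x := by
  obtain ⟨h1, h2⟩ := mv_spec hH hA' hB'
  have h := eq_one_of_fix' hH hA hB hA' hA'le
    (mul_mem (inv_mem hx) (oc_le_oc hH hA hB hA'le hB'le h1))
    (by rw [← cj_cj, h2, ← hfix, cj_cj, inv_mul_cancel, cj_one])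
  exact (inv_mul_eq_one.1 h).symm

/-- The elements carrying conjugates to one another compose. -/
theorem cons (hH : Hyp p H) {A B U V W : Subgroup G} (hA : IsCj H A) (hB : IsCj H B)
    (hU : IsCj H U) (hV : IsCj H V) (hW : IsCj H W) (hUle : U ≤ A ⊔ B) (hVle : V ≤ A ⊔ B)
    (hWle : W ≤ A ⊔ B) : mv p V W * mv p U V = mv p U W := by
  obtain ⟨h1, h2⟩ := mv_spec hH hU hV
  obtain ⟨h3, h4⟩ := mv_spec hH hV hW
  exact (mv_unique hH hA hB hU hW hUle hWle
    (mul_mem (oc_le_oc hH hA hB hVle hWle h3) (oc_le_oc hH hA hB hUle hVle h1))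
    (by rw [← cj_cj, h2, h4])).symm

theorem mv_self (hH : Hyp p H) {A : Subgroup G} (hA : IsCj H A) : mv p A A = 1 :=
  mv_unique hH hA hA hA hA le_sup_left le_sup_left (one_mem _) (cj_one A)

theorem mv_symm (hH : Hyp p H) {A B : Subgroup G} (hA : IsCj H A) (hB : IsCj H B) :
    mv p B A * mv p A B = 1 := by
  rw [cons hH hA hB hA hB hA le_sup_left le_sup_right le_sup_left, mv_self hH hA]

theorem conj_mem_oc {L : Subgroup G} (g : G) {y : G} (hy : y ∈ oc p L) :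
    g * y * g⁻¹ ∈ oc p (cj g L) := by
  refine le_oc (R := cj g (oc p L)) (map_mono oc_le) ?_ ?_ (mem_cj hy)
  · rw [cj, card_map_of_injective (MulAut.conj g).injective]; exact oc_coprime
  · rintro _ ⟨x, hx, rfl⟩ _ ⟨w, hw, rfl⟩
    exact ⟨x * w * x⁻¹, oc_conj hx hw, by simp [mul_assoc]⟩

theorem mv_conj (hH : Hyp p H) {A B : Subgroup G} (hA : IsCj H A) (hB : IsCj H B) (g : G) :
    mv p (cj g A) (cj g B) = g * mv p A B * g⁻¹ := by
  obtain ⟨h1, h2⟩ := mv_spec hH hA hB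
  refine mv_unique hH (hA.conj g) (hB.conj g) (hA.conj g) (hB.conj g) le_sup_left le_sup_right ?_ ?_
  · have := conj_mem_oc (p := p) g h1
    rwa [show cj g (A ⊔ B) = cj g A ⊔ cj g B from Subgroup.map_sup A B _] at this
  · rw [cj_cj, inv_mul_cancel_right, ← cj_cj, h2]

/-- The transport of elements of `A` to `B`. -/
noncomputable def ph (p : ℕ) (A B : Subgroup G) (x : G) : G :=
  mv p A B * x * (mv p A B)⁻¹

theorem ph_mem (hH : Hyp p H) {A B : Subgroup G} (hA : IsCj H A) (hB : IsCj H B) {x : G}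
    (hx : x ∈ A) : ph p A B x ∈ B :=
  (mv_spec hH hA hB).2.le (mem_cj hx)

theorem ph_zpow (A B : Subgroup G) (x : G) (i : ℤ) : ph p A B (x ^ i) = (ph p A B x) ^ i := by
  rw [ph, ph, conj_zpow]

theorem ph_pow (A B : Subgroup G) (x : G) (i : ℕ) : ph p A B (x ^ i) = (ph p A B x) ^ i := by
  rw [ph, ph, conj_pow]

theorem ph_inv (A B : Subgroup G) (x : G) : ph p A B x⁻¹ = (ph p A B x)⁻¹ := by
  rw [ph, ph]; group

theorem ph_eq_one_iff (A B : Subgroup G) (x : G) : ph p A B x = 1 ↔ x = 1 := by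
  rw [ph, conj_eq_one_iff]

theorem ph_comp (hH : Hyp p H) {A B U V W : Subgroup G} (hA : IsCj H A) (hB : IsCj H B)
    (hU : IsCj H U) (hV : IsCj H V) (hW : IsCj H W) (hUle : U ≤ A ⊔ B) (hVle : V ≤ A ⊔ B)
    (hWle : W ≤ A ⊔ B) (x : G) : ph p V W (ph p U V x) = ph p U W x := by
  simp only [ph, ← cons hH hA hB hU hV hW hUle hVle hWle]
  group

theorem ph_symm (hH : Hyp p H) {A B : Subgroup G} (hA : IsCj H A) (hB : IsCj H B) (x : G) :
    ph p B A (ph p A B x) = x := by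
  rw [ph_comp hH hA hB hA hB hA le_sup_left le_sup_right le_sup_left, ph, mv_self hH hA]
  group

/-- An element of a conjugate moves every conjugate by the canonical map. -/
theorem ph_of_mem (hH : Hyp p H) {P B : Subgroup G} (hP : IsCj H P) (hB : IsCj H B) {z : G}
    (hz : z ∈ B) {x : G} (hx : x ∈ P) : ph p P (cj z P) x = z * x * z⁻¹ := by
  obtain ⟨hk, hkP⟩ := mv_spec hH hP hB
  set k := mv p P B with hk'
  obtain ⟨c, hc, hcz⟩ : ∃ c ∈ P, k * c * k⁻¹ = z := by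
    rw [← hkP] at hz
    exact hz
  have hl : z * c⁻¹ ∈ oc p (P ⊔ B) := by
    rw [← hcz, show k * c * k⁻¹ * c⁻¹ = k * (c * k⁻¹ * c⁻¹) by group]
    exact mul_mem hk ((mem_normalizer_iff.1 (le_normalizer_oc (mem_sup_left hc)) _).1 (inv_mem hk))
  have hzT : cj z P ≤ P ⊔ B := by
    rintro _ ⟨y, hy, rfl⟩
    exact mul_mem (mul_mem (mem_sup_right hz) (mem_sup_left hy)) (inv_mem (mem_sup_right hz))
  have hmv : mv p P (cj z P) = z * c⁻¹ :=
    mv_unique hH hP hB hP (hP.conj z) le_sup_left hzT hl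
      (by rw [← cj_cj, cj_eq_self (inv_mem hc)])
  rw [ph, hmv]
  calc z * c⁻¹ * x * (z * c⁻¹)⁻¹ = z * (c⁻¹ * x * c) * z⁻¹ := by group
    _ = z * x * z⁻¹ := by
      rw [(commute_H (hP.hyp hH) (inv_mem hc) hx).eq, inv_mul_cancel_right]

/-- A product of an element of the `p'`-core and a generator generates a conjugate. -/
theorem rotate (hH : Hyp p H) {A B : Subgroup G} (hB : IsCj H B) {a x : G} (ha : zpowers a = A)
    (hA : IsCj H A) (hx : x ∈ oc p (A ⊔ B)) :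
    IsCj H (zpowers (x * a)) ∧ zpowers (x * a) ≤ A ⊔ B ∧ ph p A (zpowers (x * a)) a = x * a := by
  have haA : a ∈ A := ha ▸ mem_zpowers a
  have haT : a ∈ A ⊔ B := mem_sup_left haA
  have haN : a ∈ normalizer (oc p (A ⊔ B) : Set G) := le_normalizer_oc haT
  obtain ⟨m, hm⟩ : ∃ m, orderOf a = p ^ m := by
    obtain ⟨m, hm⟩ := IsPGroup.iff_card.1 (hA.hyp hH).pgroup
    exact ⟨m, by rw [← Nat.card_zpowers, ha, hm]⟩
  obtain ⟨k, hk, y, hy, hya, he⟩ := exists_conj_coset oc_coprime hm haN (w := x * a)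
    (by rw [← mul_assoc]; exact (mem_normalizer_iff''.1 haN x).1 hx)
  have hy1 : y = 1 := by
    refine eq_one_of_fix hH hA hB hy ?_
    rw [← ha, cj_zpowers, hya.eq, mul_inv_cancel_right]
  rw [hy1, mul_one] at he
  have hxa : x * a = k⁻¹ * a * k⁻¹⁻¹ := by
    calc x * a = k⁻¹ * (k * (x * a) * k⁻¹) * k := by group
      _ = k⁻¹ * a * k⁻¹⁻¹ := by rw [he, inv_inv]
  have hD : zpowers (x * a) = cj k⁻¹ A := by rw [hxa, ← cj_zpowers, ha]
  have hDle : zpowers (x * a) ≤ A ⊔ B := zpowers_le.2 (mul_mem (oc_le hx) haT)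
  have hDc : IsCj H (zpowers (x * a)) := hD ▸ hA.conj k⁻¹
  refine ⟨hDc, hDle, ?_⟩
  rw [ph, mv_unique hH hA hB hA hDc le_sup_left hDle (inv_mem hk) hD.symm, ← hxa]

end CfsgLib.LocalEvenB.ExtremelyClosedOdd
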