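import Cfsg.Agent.Lib.LocalEvenB.ExtremelyClosedOdd.Kernel
import Cfsg.Agent.Lib.Coprime.Action

/-!
# The centralizer of an extremely closed subgroup in a commutator

For a `p'`-group `X` normalized by the extremely closed abelian `p`-subgroup `H`, with `p` odd,
`C(H)` meets `[X, H]` trivially.
-/

set_option autoImplicit false
set_option linter.unusedSectionVars false

namespace CfsgLib.LocalEvenB.ExtremelyClosedOdd

open Subgroup
open scoped commutatorElement

universe u

variable {p : ℕ} [hp : Fact p.Prime]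

/-- The statement for one order. -/
def FocalBelow (p n : ℕ) : Prop :=
  ∀ (G : Type u) [Group G] [Finite G] (H X : Subgroup G), Nat.card ↥(H ⊔ X) < n → Hyp p H →
    H ≤ normalizer (X : Set G) → (Nat.card X).Coprime p →
      ∀ y ∈ ⁅X, H⁆, y ∈ centralizer (H : Set G) → y = 1

theorem focal_top (hp2 : p ≠ 2) {n : ℕ} (IH : FocalBelow.{u} p n) {G : Type u} [Group G] [Finite G]
    (hn : Nat.card G = n) {H X : Subgroup G} (hH : Hyp p H) (hHX : H ≤ normalizer (X : Set G))
    (hX : (Nat.card X).Coprime p) (htop : H ⊔ X = ⊤) (hcomm : ⁅X, H⁆ = X) {y : G} (hy : y ∈ X)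
    (hyH : y ∈ centralizer (H : Set G)) : y = 1 := by
  haveI := hH.ab
  have hHs : Group.IsSolvable H := Group.isSolvable_of_comm fun a b : H => hH.ab.is_comm.comm a b
  obtain ⟨j, hj⟩ := IsPGroup.iff_card.1 hH.pgroup
  have hcopHX : (Nat.card H).Coprime (Nat.card X) := by
    rw [hj]; exact (hX.pow_right j).symm
  by_cases hj0 : j = 0
  · subst hj0
    have hHb : H = ⊥ := card_eq_one.1 (by rw [hj, pow_zero])
    rw [← hcomm, hHb, commutator_bot_right, mem_bot] at hy
    exact hy
  obtain ⟨v0, hv0⟩ := exists_prime_orderOf_dvd_card' (G := H) p (hj ▸ dvd_pow_self p hj0)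
  obtain ⟨v, hvH, hvo⟩ : ∃ v ∈ H, orderOf v = p := ⟨v0, v0.2, by rw [Subgroup.orderOf_coe, hv0]⟩
  have hXn : X.Normal := by
    rw [← normalizer_eq_top_iff, eq_top_iff, ← htop]
    exact sup_le hHX le_normalizer
  have hcardG : ∀ Q : Subgroup G, Q ≠ ⊥ → ∀ [Q.Normal],
      Nat.card ↥(H.map (QuotientGroup.mk' Q) ⊔ X.map (QuotientGroup.mk' Q)) < n := by
    intro Q hQ _
    refine lt_of_le_of_lt (card_le_card_group _) ?_
    have h1 := card_eq_card_quotient_mul_card_subgroup Q
    have h2 : 1 < Nat.card Q := by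
      haveI := (Subgroup.nontrivial_iff_ne_bot Q).2 hQ
      exact Finite.one_lt_card
    rw [← hn, h1]
    exact lt_mul_of_one_lt_right Nat.card_pos h2
  have hquot : ∀ Q : Subgroup G, Q ≠ ⊥ → Q.Normal → y ∈ Q := by
    intro Q hQ hQn
    haveI := hQn
    refine (QuotientGroup.eq_one_iff y).1 (IH _ (H.map (QuotientGroup.mk' Q))
      (X.map (QuotientGroup.mk' Q)) (hcardG Q hQ) (hyp_quotient hH Q) ?_
      (hX.coprime_dvd_left (card_map_dvd _ _)) _ ?_ ?_)
    · exact (Subgroup.map_mono hHX).trans (le_normalizer_map _)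
    · rw [← map_commutator, hcomm]; exact ⟨y, hy, rfl⟩
    · refine mem_centralizer_iff.2 ?_
      rintro _ ⟨h, hh, rfl⟩
      show QuotientGroup.mk' Q h * QuotientGroup.mk' Q y = QuotientGroup.mk' Q y * QuotientGroup.mk' Q h
      rw [← map_mul, ← map_mul, mem_centralizer_iff.1 hyH h hh]
  have hvne : zpowers v ≠ ⊥ := by
    rw [ne_eq, zpowers_eq_bot]
    intro h
    rw [h, orderOf_one] at hvo
    exact hp.out.ne_one hvo.symm
  have hpz : IsPGroup p (zpowers v) := IsPGroup.of_card (n := 1) (by rw [Nat.card_zpowers, hvo, pow_one])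
  by_cases hcen : X ≤ centralizer ({v} : Set G)
  · have hvc : v ∈ center G := by
      rw [Subgroup.mem_center_iff]
      intro g
      have hle : (⊤ : Subgroup G) ≤ centralizer ({v} : Set G) := htop ▸ sup_le
        (fun h hh => mem_centralizer_singleton_iff.2 (commute_H hH hh hvH).eq) hcen
      exact mem_centralizer_singleton_iff.1 (hle (mem_top g))
    have hQn : (zpowers v).Normal := ⟨fun w hw g => by
      rwa [Subgroup.mem_center_iff.1 (zpowers_le.2 hvc hw) g, mul_inv_cancel_right]⟩
    have h1 := CfsgLib.Fusion.Basic.inf_eq_bot_of_coprime hpz hX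
    exact mem_bot.1 (h1 ▸ (⟨hquot _ hvne hQn, hy⟩ : y ∈ zpowers v ⊓ X))
  cases nonempty_fintype G
  set C1 := X ⊓ centralizer ({v} : Set G) with hC1
  set D := ⁅C1, H⁆ with hD
  set M := ⁅X, zpowers v⁆ with hM
  have hHC1 : H ≤ normalizer (C1 : Set G) := (le_inf hHX
    ((show H ≤ centralizer ({v} : Set G) from fun h hh =>
      mem_centralizer_singleton_iff.2 (commute_H hH hh hvH).eq).trans le_normalizer)).trans
    inf_normalizer_le_normalizer_inf
  have hDle : D ≤ C1 := le_normalizer_iff_commutator_le_left.1 hHC1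
  have hC1lt : Nat.card ↥(H ⊔ C1) < n := by
    have hlt : Nat.card C1 < Nat.card X := lt_of_le_of_ne (card_le_of_le inf_le_left)
      fun h => hcen (inf_eq_left.1 (eq_of_le_of_card_ge (inf_le_left : C1 ≤ X) h.ge))
    have hd1 : Disjoint C1 H := by
      rw [disjoint_iff, inf_comm]
      exact CfsgLib.Fusion.Basic.inf_eq_bot_of_coprime hH.pgroup
        (hX.coprime_dvd_left (card_dvd_of_le inf_le_left))
    have hd2 : Disjoint X H := by
      rw [disjoint_iff, inf_comm]
      exact CfsgLib.Fusion.Basic.inf_eq_bot_of_coprime hH.pgroup hX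
    rw [sup_comm, CfsgLib.Coprime.card_sup_of_le_normalizer hHC1 hd1, ← hn,
      ← Subgroup.card_top (G := G), ← htop, sup_comm H X,
      CfsgLib.Coprime.card_sup_of_le_normalizer hHX hd2]
    exact Nat.mul_lt_mul_of_pos_right hlt Nat.card_pos
  have hK : KData p H X D v := by
    refine ⟨hH.pgroup, hHX, hX, hvH, fun h hh => commute_H hH hh hvH, hvo, hDle, fun c hc d hd => ?_,
      fun h hh d hd => ?_, fun d hd hfix => ?_, fun a ha => ?_⟩
    · exact (mem_normalizer_iff.1 (normalizer_commutator_ge_left C1 H hc) d).1 hd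
    · exact (mem_normalizer_iff.1 (normalizer_commutator_ge_right C1 H hh) d).1 hd
    · exact IH G H C1 hC1lt hH hHC1 (hX.coprime_dvd_left (card_dvd_of_le inf_le_left)) d hd
        (mem_centralizer_iff.2 fun h hh => mul_inv_eq_iff_eq_mul.1 (hfix h hh))
    · obtain ⟨o, ho, nn, hnn, hao⟩ := decomp hH a
      set K := oc p (pair H a) with hKdef
      have hKX : K ≤ X := fun x hx => mem_of_coprime_orderOf hH.pgroup hHX
        (by rw [htop]; trivial) (not_dvd_orderOf oc_coprime hx)
      have hHK : H ≤ normalizer (K : Set G) := (le_sup_left : H ≤ pair H a).trans le_normalizer_oc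
      refine ⟨K, oc_coprime, hKX, hHK hvH, ?_, fun z hz hzv => ?_⟩
      · have hnX : nn ∈ X := by
          have := mul_mem (inv_mem (hKX ho)) ha
          rwa [hao, inv_mul_cancel_left] at this
        have hnv : nn * v * nn⁻¹ = v := by
          have h1 : nn * v * nn⁻¹ * v⁻¹ ∈ H ⊓ X := by
            refine mem_inf.2 ⟨mul_mem ((mem_normalizer_iff.1 hnn v).1 hvH) (Subgroup.inv_mem H hvH), ?_⟩
            rw [show nn * v * nn⁻¹ * v⁻¹ = nn * (v * nn⁻¹ * v⁻¹) by group]
            exact mul_mem hnX ((mem_normalizer_iff.1 (hHX hvH) _).1 (inv_mem hnX))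
          rw [CfsgLib.Fusion.Basic.inf_eq_bot_of_coprime hH.pgroup hX, mem_bot, mul_inv_eq_one] at h1
          exact h1
        rw [hao, show v⁻¹ * (o * nn * v * (o * nn)⁻¹) = v⁻¹ * o * (nn * v * nn⁻¹) * o⁻¹ by group, hnv]
        refine mul_mem ?_ (inv_mem ho)
        exact (mem_normalizer_iff''.1 (hHK hvH) o).1 ho
      · set Kv := K ⊓ centralizer ({v} : Set G) with hKv
        have hHKv : H ≤ normalizer (Kv : Set G) := (le_inf hHK
          ((show H ≤ centralizer ({v} : Set G) from fun h hh =>
            mem_centralizer_singleton_iff.2 (commute_H hH hh hvH).eq).trans le_normalizer)).trans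
          inf_normalizer_le_normalizer_inf
        have hsup := CfsgLib.Coprime.commutator_sup_centralizer hHKv
          (by rw [hj]
              exact ((oc_coprime (L := pair H a)).coprime_dvd_left (card_dvd_of_le inf_le_left)).symm.pow_left j)
          (Or.inl hHs)
        have hfix1 : Kv ⊓ centralizer (H : Set G) = ⊥ := eq_bot_iff.2 fun x hx => mem_bot.2
          (inf_normalizer_eq_one hH a hx.1.1 (centralizer_le_normalizer _ hx.2))
        rw [hfix1, sup_bot_eq] at hsup
        have hzK : z ∈ Kv := ⟨hz, mem_centralizer_singleton_iff.2 hzv.eq⟩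
        exact commutator_mono (inf_le_inf_right _ hKX) le_rfl (hsup.ge hzK)
  have hMne : M ≠ ⊥ := by
    rw [hM, ne_eq, commutator_eq_bot_iff_le_centralizer]
    exact fun h => hcen fun x hx => mem_centralizer_singleton_iff.2
      (mem_centralizer_iff.1 (h hx) v (mem_zpowers v)).symm
  have hMn : M.Normal := by
    rw [← normalizer_eq_top_iff, eq_top_iff, ← htop]
    refine sup_le (fun h hh => ?_) (normalizer_commutator_ge_left X (zpowers v))
    rw [mem_normalizer_iff_map_conj_eq, hM, map_commutator,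
      mem_normalizer_iff_map_conj_eq.1 (hHX hh), MonoidHom.map_zpowers]
    congr 2
    exact mul_inv_eq_iff_eq_mul.2 (commute_H hH hh hvH).eq
  exact inf_commutator_eq_one hK hp2 hy (hquot M hMne hMn) fun h hh =>
    mul_inv_eq_iff_eq_mul.2 (mem_centralizer_iff.1 hyH h hh)

theorem focal_aux (hp2 : p ≠ 2) : ∀ n : ℕ, FocalBelow.{u} p n := by
  intro n
  induction n with
  | zero => intro G _ _ H X h; exact absurd h (Nat.not_lt_zero _)
  | succ n IH =>
    intro G _ _ H X hlt hH hHX hX y hy hyH
    rcases Nat.lt_succ_iff_lt_or_eq.1 hlt with h | h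
    · exact IH G H X h hH hHX hX y hy hyH
    haveI := hH.ab
    have hHs : Group.IsSolvable H := Group.isSolvable_of_comm fun a b : H => hH.ab.is_comm.comm a b
    obtain ⟨j, hj⟩ := IsPGroup.iff_card.1 hH.pgroup
    have hcop : (Nat.card H).Coprime (Nat.card X) := by
      rw [hj]; exact (hX.pow_right j).symm
    set X' := ⁅X, H⁆ with hX'
    have hle : X' ≤ X := le_normalizer_iff_commutator_le_left.1 hHX
    have hXX : ⁅X', H⁆ = X' := CfsgLib.Coprime.commutator_commutator_self hHX hcop (Or.inl hHs)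
    by_cases heq : X' = X
    · set W := H ⊔ X with hW
      have hHW : H ≤ W := le_sup_left
      have hXW : X ≤ W := le_sup_right
      have hyW : y ∈ W := hXW (hle hy)
      refine congrArg Subtype.val (focal_top hp2 IH (G := W) h (H := H.subgroupOf W)
        (X := X.subgroupOf W) (hyp_subgroupOf hH hHW) ?_ ?_ ?_ ?_ (y := ⟨y, hyW⟩) (heq ▸ hy) ?_)
      · exact fun w hw => mem_normalizer_iff.2 fun z => mem_normalizer_iff.1 (hHX hw) (z : G)
      · rwa [Nat.card_congr (subgroupOfEquivOfLe hXW).toEquiv]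
      · rw [← subgroupOf_sup hHW hXW, ← hW, subgroupOf_self]
      · apply map_injective W.subtype_injective
        rw [map_commutator, map_subgroupOf_eq_of_le hXW, map_subgroupOf_eq_of_le hHW]
        exact heq
      · exact mem_centralizer_iff.2 fun z hz => Subtype.ext (mem_centralizer_iff.1 hyH (z : G) hz)
    · have hd : Disjoint X' H := by
        rw [disjoint_iff, inf_comm]
        exact CfsgLib.Fusion.Basic.inf_eq_bot_of_coprime hH.pgroup
          (hX.coprime_dvd_left (card_dvd_of_le hle))
      have hd2 : Disjoint X H := by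
        rw [disjoint_iff, inf_comm]
        exact CfsgLib.Fusion.Basic.inf_eq_bot_of_coprime hH.pgroup hX
      have hn' : H ≤ normalizer (X' : Set G) := normalizer_commutator_ge_right X H
      have hcard : Nat.card ↥(H ⊔ X') < n := by
        rw [← h, sup_comm, CfsgLib.Coprime.card_sup_of_le_normalizer hn' hd, sup_comm H X,
          CfsgLib.Coprime.card_sup_of_le_normalizer hHX hd2]
        refine Nat.mul_lt_mul_of_pos_right (lt_of_le_of_ne (card_le_of_le hle) fun e => heq ?_)
          Nat.card_pos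
        exact eq_of_le_of_card_ge hle e.ge
      exact IH G H X' hcard hH hn' (hX.coprime_dvd_left (card_dvd_of_le hle)) y
        (hXX.symm ▸ hy) hyH

/-- `C(H)` meets `[X, H]` trivially. -/
theorem focal {G : Type u} [Group G] [Finite G] (hp2 : p ≠ 2) {H X : Subgroup G} (hH : Hyp p H)
    (hHX : H ≤ normalizer (X : Set G)) (hX : (Nat.card X).Coprime p) {y : G} (hy : y ∈ ⁅X, H⁆)
    (hyH : y ∈ centralizer (H : Set G)) : y = 1 :=
  focal_aux hp2 _ G H X (Nat.lt_succ_self _) hH hHX hX y hy hyH

end CfsgLib.LocalEvenB.ExtremelyClosedOdd
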