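import Cfsg.Agent.S0943
import Cfsg.Agent.Lib.CharDeep.Glauberman.CyclicCorr
import Cfsg.Agent.Lib.CharDeep.Glauberman.CoprimeDegree
import Cfsg.Agent.Lib.CharDeep.Glauberman.Correspondence
import Cfsg.Agent.Lib.Blocks.Basic
import Cfsg.Agent.Lib.LocalEvenB.ExtremelyClosedOdd.Basic

/-!
# Characters fixed by an extremely closed subgroup

For a `p'`-group `X` normalized by the abelian `p`-group `H` and `v` of order `p` in `H`, the
fusion of `v` in `X ⟨v⟩` forces `[X, v]` into the kernel of every `H`-invariant character of `X`;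
a congruence then makes `C_X(H)` meet `[X, v]` trivially.
-/

set_option autoImplicit false
set_option linter.unusedSectionVars false

namespace CfsgLib.LocalEvenB.ExtremelyClosedOdd

open Subgroup CfsgLib.CharDeep
open scoped Classical ComplexConjugate commutatorElement

universe u

variable {G : Type u} [Group G] [Fintype G] {p : ℕ} [hp : Fact p.Prime] {H X D : Subgroup G}
  {v : G}

/-- The data for the kernel computation. -/
structure KData (p : ℕ) (H X D : Subgroup G) (v : G) : Prop where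
  pgroup : IsPGroup p H
  norm : H ≤ normalizer (X : Set G)
  cop : (Nat.card X).Coprime p
  mem : v ∈ H
  comm : ∀ h ∈ H, Commute h v
  ord : orderOf v = p
  dle : D ≤ X ⊓ centralizer ({v} : Set G)
  dnorm : ∀ c ∈ X ⊓ centralizer ({v} : Set G), ∀ d ∈ D, c * d * c⁻¹ ∈ D
  dconj : ∀ h ∈ H, ∀ d ∈ D, h * d * h⁻¹ ∈ D
  dfix : ∀ d ∈ D, (∀ h ∈ H, h * d * h⁻¹ = d) → d = 1
  fus : ∀ a ∈ X, ∃ K : Subgroup G, (Nat.card K).Coprime p ∧ K ≤ X ∧
    v ∈ normalizer (K : Set G) ∧ v⁻¹ * (a * v * a⁻¹) ∈ K ∧ ∀ y ∈ K, Commute y v → y ∈ D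

theorem mem_charKer_of_invariant (hK : KData p H X D v) (hp2 : p ≠ 2)
    (θ : Cfsg.IrrCharacter X)
    (hθ : ∀ h ∈ H, ∀ a b : X, (b : G) = h * a * h⁻¹ → (θ : X → ℂ) b = (θ : X → ℂ) a)
    {a : X} (ha : (a : G) ∈ ⁅X, zpowers v⁆) : (θ : X → ℂ) a = (θ : X → ℂ) 1 := by
  set W := X ⊔ zpowers v with hW
  have hvW : v ∈ W := mem_sup_right (mem_zpowers v)
  have hXW : X ≤ W := le_sup_left
  have hzN : zpowers v ≤ normalizer (X : Set G) := zpowers_le.2 (hK.norm hK.mem)
  set G0 := X.subgroupOf W with hG0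
  set s : W := ⟨v, hvW⟩ with hs
  set C1 := X ⊓ centralizer ({v} : Set G) with hC1
  set C := C1.subgroupOf W with hC
  have hos : orderOf s = p := by rw [← Subgroup.orderOf_coe]; exact hK.ord
  haveI hG0n : G0.Normal := (normal_subgroupOf_iff_le_normalizer hXW).2 (sup_le le_normalizer hzN)
  have hG0c : Nat.card G0 = Nat.card X := Nat.card_congr (subgroupOfEquivOfLe hXW).toEquiv
  have hCyc : Glauberman.Cyc G0 C s := by
    refine ⟨hG0n, by rw [hG0c, hos]; exact hK.cop, ?_, fun g => ?_⟩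
    · apply map_injective W.subtype_injective
      rw [Subgroup.map_sup, map_subgroupOf_eq_of_le hXW, MonoidHom.map_zpowers,
        ← MonoidHom.range_eq_map, range_subtype]
      rfl
    · simp only [hC, hG0, hC1, mem_subgroupOf, mem_inf, mem_centralizer_singleton_iff]
      exact and_congr_right fun _ => ⟨fun h => Subtype.ext h.symm, fun h => (congrArg Subtype.val h).symm⟩
  -- the extension
  let e := subgroupOfEquivOfLe hXW
  let θ' : Cfsg.IrrCharacter G0 := ⟨(θ : X → ℂ) ∘ e, Char.IsIrrCharacter.comp_equiv θ.2 e⟩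
  have hinv : ∀ x ∈ zpowers s, ∀ g g' : G0, (g' : W) = x * g * x⁻¹ →
      (θ' : G0 → ℂ) g' = (θ' : G0 → ℂ) g := by
    intro x hx g g' hgg
    obtain ⟨k, rfl⟩ := mem_zpowers_iff.1 hx
    refine hθ (v ^ k) (zpow_mem hK.mem k) (e g) (e g') ?_
    show ((g' : W) : G) = v ^ k * ((g : W) : G) * (v ^ k)⁻¹
    rw [hgg, Subgroup.coe_mul, Subgroup.coe_mul, Subgroup.coe_inv, SubgroupClass.coe_zpow]
  obtain ⟨χ, hres, hdet⟩ := hCyc.exists_canon rfl θ' hinv
  obtain ⟨β, ε, hε, hval⟩ := hCyc.exists_corr (hCyc.canon_of rfl hres hdet)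
  have hε0 : (ε : ℂ) ≠ 0 := by rcases hε with rfl | rfl <;> norm_num
  have hs2 : zpowers (s ^ 2) = zpowers s := by
    refine eq_of_le_of_card_ge (zpowers_le.2 (pow_mem (mem_zpowers s) 2)) ?_
    rw [Nat.card_zpowers, Nat.card_zpowers, Nat.Coprime.orderOf_pow (by
      rw [hos]; exact (Nat.coprime_primes hp.out Nat.prime_two).2 hp2)]
  have hχs : (χ : W → ℂ) s = ε * (β : C → ℂ) 1 := by
    rw [← hval 1 s rfl, OneMemClass.coe_one, one_mul]
  have hs0 : (χ : W → ℂ) s ≠ 0 := by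
    rw [hχs]; exact mul_ne_zero hε0 (Char.IsIrrCharacter.apply_one_ne_zero β.2)
  -- invariance of `β`
  have hWn : ∀ h ∈ H, ∀ w ∈ W, h * w * h⁻¹ ∈ W := by
    intro h hh w hw
    have hle : W ≤ W.comap (MulAut.conj h).toMonoidHom := sup_le
      (fun x hx => show h * x * h⁻¹ ∈ W from hXW ((mem_normalizer_iff.1 (hK.norm hh) x).1 hx))
      (zpowers_le.2 (show h * v * h⁻¹ ∈ W by rw [(hK.comm h hh).eq, mul_inv_cancel_right]; exact hvW))
    exact hle hw
  have hβinv : ∀ h ∈ H, ∀ c c' : C, ((c' : W) : G) = h * ((c : W) : G) * h⁻¹ →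
      (β : C → ℂ) c' = (β : C → ℂ) c := by
    intro h hh c c' hcc
    let α : W ≃* W :=
      { toFun := fun w => ⟨h * w * h⁻¹, hWn h hh w w.2⟩
        invFun := fun w => ⟨h⁻¹ * w * h, by simpa using hWn h⁻¹ (inv_mem hh) w w.2⟩
        left_inv := fun w => Subtype.ext (show h⁻¹ * (h * w * h⁻¹) * h = w by group)
        right_inv := fun w => Subtype.ext (show h * (h⁻¹ * w * h) * h⁻¹ = w by group)
        map_mul' := fun w w' => Subtype.ext
          (show h * (w * w') * h⁻¹ = h * w * h⁻¹ * (h * w' * h⁻¹) by group) }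
    let χ' : Cfsg.IrrCharacter W := ⟨(χ : W → ℂ) ∘ α, Char.IsIrrCharacter.comp_equiv χ.2 α⟩
    have hαG0 : ∀ k : G0, α (k : W) ∈ G0 := fun k =>
      (mem_normalizer_iff.1 (hK.norm hh) _).1 k.2
    have hres' : ∀ k : G0, (χ' : W → ℂ) k = (θ' : G0 → ℂ) k := fun k => by
      show (χ : W → ℂ) (α k) = (θ' : G0 → ℂ) k
      rw [hres ⟨α k, hαG0 k⟩]
      exact hθ h hh (e k) (e ⟨α k, hαG0 k⟩) rfl
    obtain ⟨μ, hμ, hμe⟩ := Glauberman.exists_hom_mul χ χ' θ' hres hres'
    have hαs : α s = s := Subtype.ext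
      (show h * v * h⁻¹ = v by rw [(hK.comm h hh).eq, mul_inv_cancel_right])
    have hμs : μ s = 1 := by
      have h1 := hμe s
      change (χ : W → ℂ) (α s) = _ at h1
      rw [hαs] at h1
      exact Units.ext (mul_right_cancel₀ hs0 (by rw [Units.val_one, one_mul]; exact h1.symm))
    have hμ1 : ∀ w, μ w = 1 := fun w => by
      have : w ∈ μ.ker := (sup_le (fun k hk => hμ ⟨k, hk⟩) (zpowers_le.2 hμs) :
        G0 ⊔ zpowers s ≤ μ.ker) (hCyc.span ▸ mem_top w)
      exact this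
    have h2 := hμe ((c : W) * s)
    change (χ : W → ℂ) (α ((c : W) * s)) = _ at h2
    rw [hμ1, Units.val_one, one_mul, map_mul, hαs, show α (c : W) = (c' : W) from Subtype.ext hcc.symm,
      hval c' s rfl, hval c s rfl] at h2
    exact mul_left_cancel₀ hε0 h2
  -- `β` is constant on `D`
  have hDC : D ≤ C1 := hK.dle
  have hDW : ∀ d : D, (d : G) ∈ W := fun d => hXW (hDC d.2).1
  let ι : D → C := fun d => ⟨⟨d, hDW d⟩, hDC d.2⟩
  have hconst : ∀ d : D, (β : C → ℂ) (ι d) = (β : C → ℂ) 1 := by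
    set D' : Subgroup C := (D.subgroupOf W).subgroupOf C with hD'
    haveI : D'.Normal := ⟨fun d hd c => hK.dnorm ((c : W) : G) c.2 ((d : W) : G) hd⟩
    by_cases h0 : Cfsg.classInner (fun d : D' => (β : C → ℂ) d) (fun _ => (1 : ℂ)) = 0
    · exfalso
      have hsum : ∑ d : D, (β : C → ℂ) (ι d) = 0 := by
        rw [Cfsg.classInner, mul_eq_zero] at h0
        refine Eq.trans ?_ (h0.resolve_left (inv_ne_zero Char.card_ne_zero))
        refine Fintype.sum_equiv
          { toFun := fun d => ⟨ι d, d.2⟩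
            invFun := fun d => ⟨((d : C) : W), d.2⟩
            left_inv := fun d => rfl
            right_inv := fun d => rfl } _ _ fun d => ?_
        simp
      let π : H →* Equiv.Perm D :=
        { toFun := fun h =>
            { toFun := fun d => ⟨(h : G) * d * (h : G)⁻¹, hK.dconj h h.2 d d.2⟩
              invFun := fun d => ⟨(h : G)⁻¹ * d * (h : G)⁻¹⁻¹, hK.dconj _ (inv_mem h.2) d d.2⟩
              left_inv := fun d => Subtype.ext
                (show (h : G)⁻¹ * ((h : G) * d * (h : G)⁻¹) * (h : G)⁻¹⁻¹ = d by group)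
              right_inv := fun d => Subtype.ext
                (show (h : G) * ((h : G)⁻¹ * d * (h : G)⁻¹⁻¹) * (h : G)⁻¹ = d by group) }
          map_one' := Equiv.ext fun d => Subtype.ext
            (show (1 : G) * d * (1 : G)⁻¹ = d by group)
          map_mul' := fun h h' => Equiv.ext fun d => Subtype.ext
            (show ((h : G) * h') * d * ((h : G) * h')⁻¹ =
              h * (h' * d * (h' : G)⁻¹) * (h : G)⁻¹ by group) }
      have hcong := Glauberman.cong_sum_fixed hK.pgroup π (fun d => (β : C → ℂ) (ι d))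
        (fun d => Char.IsCharacter.isIntegral (Char.isCharacter_irr β) _)
        (fun h d => hβinv h h.2 _ _ rfl)
      rw [hsum, Finset.sum_eq_single (1 : D)] at hcong
      · have h1 : ι 1 = 1 := rfl
        rw [h1, CfsgLib.Blocks.irr_one_eq] at hcong
        have hdvd := (Glauberman.Cong.nat_zero_iff hp.out.ne_zero _).1 hcong.symm
        have h2 := hdvd.trans (CfsgLib.Blocks.charDegree_dvd β)
        rw [Nat.card_congr (subgroupOfEquivOfLe (inf_le_left.trans hXW : C1 ≤ W)).toEquiv] at h2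
        exact hp.out.coprime_iff_not_dvd.1 hK.cop.symm
          (h2.trans (card_dvd_of_le (inf_le_left : C1 ≤ X)))
      · intro d hd hd1
        refine absurd (Subtype.ext (hK.dfix d d.2 fun h hh => ?_)) hd1
        exact congrArg Subtype.val ((Finset.mem_filter.1 hd).2 ⟨h, hh⟩)
      · intro h1
        exact absurd (Finset.mem_filter.2 ⟨Finset.mem_univ _, fun (h : H) => Subtype.ext
          (show (h : G) * ((1 : D) : G) * (h : G)⁻¹ = ((1 : D) : G) by simp)⟩) h1
    · obtain ⟨r, -, -, hr⟩ := CharDeep.Clifford.restrict_eq_smul D' β.2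
        Char.isIrrCharacter_one h0 (fun _ _ => rfl)
      intro d
      have h1 := congrFun hr ⟨ι d, d.2⟩
      have h2 := congrFun hr 1
      simp only [Pi.smul_apply] at h1 h2
      rw [h1, ← OneMemClass.coe_one D', h2]
  -- the product formula
  have hss : (χ : W → ℂ) (s * s) = (χ : W → ℂ) s := by
    rw [← pow_two, hχs, ← hval 1 (s ^ 2) hs2, OneMemClass.coe_one, one_mul]
  have hprod : (χ : W → ℂ) s * (χ : W → ℂ) s = (χ : W → ℂ) 1 * (χ : W → ℂ) (s * s) := by
    refine Cfsg.Agent.S0943.result χ s s fun x' y' hx' hy' => ?_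
    obtain ⟨h, rfl⟩ := isConj_iff.1 hx'
    obtain ⟨g, rfl⟩ := isConj_iff.1 hy'
    have hcf := Char.IsIrrCharacter.isClassFunction χ.2
    rw [show h * s * h⁻¹ * (g * s * g⁻¹) = h * (s * ((h⁻¹ * g) * s * (h⁻¹ * g)⁻¹)) * h⁻¹ by group,
      hcf]
    obtain ⟨b, hb, i, -, hbi⟩ := hCyc.exists_eq (h⁻¹ * g)
    have hbs : h⁻¹ * g * s * (h⁻¹ * g)⁻¹ = b * s * b⁻¹ := by
      rw [hbi, show b * s ^ i * s * (b * s ^ i)⁻¹ = b * (s ^ i * s * (s ^ i)⁻¹) * b⁻¹ by group,
        ((Commute.refl s).pow_left i).eq, mul_inv_cancel_right]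
    rw [hbs]
    obtain ⟨K, hKc, hKX, hvK, hk0, hKD⟩ := hK.fus (b : G) hb
    have ho2 : orderOf (v ^ 2) = p ^ 1 := by
      rw [Nat.Coprime.orderOf_pow (by
        rw [hK.ord]; exact (Nat.coprime_primes hp.out Nat.prime_two).2 hp2), hK.ord, pow_one]
    obtain ⟨k, hk, y, hy, hyv, he⟩ := exists_conj_coset hKc ho2 (pow_mem hvK 2)
      (w := v * ((b : G) * v * (b : G)⁻¹))
      (by rw [show (v ^ 2)⁻¹ * (v * ((b : G) * v * (b : G)⁻¹)) = v⁻¹ * ((b : G) * v * (b : G)⁻¹) by
            rw [pow_two]; group]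
          exact hk0)
    have hyv' : Commute y v := by
      obtain ⟨d, hd⟩ := exists_pow_eq_self_of_coprime (x := v) (n := 2)
        (by rw [hK.ord]; exact ((Nat.coprime_primes hp.out Nat.prime_two).2 hp2).symm)
      rw [← hd]; exact hyv.pow_right d
    have hyD := hKD y hy hyv'
    rw [← hcf _ ⟨k, hXW (hKX hk)⟩,
      show (⟨k, hXW (hKX hk)⟩ : W) * (s * (b * s * b⁻¹)) * (⟨k, hXW (hKX hk)⟩ : W)⁻¹ =
        (ι ⟨y, hyD⟩ : W) * s ^ 2 from Subtype.ext (he.trans hyv.eq.symm),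
      hval (ι ⟨y, hyD⟩) (s ^ 2) hs2, hconst, hss, hχs]
  rw [hss] at hprod
  have hker : (χ : W → ℂ) s = (χ : W → ℂ) 1 := mul_right_cancel₀ hs0 hprod
  set hχc := Char.isCharacter_irr χ
  haveI := Char.charKer_normal hχc
  have hM : ⁅X, zpowers v⁆ ≤ (Char.charKer hχc).map W.subtype := by
    refine commutator_le.2 fun x hx z hz => ?_
    obtain ⟨k, rfl⟩ := mem_zpowers_iff.1 hz
    refine ⟨⁅(⟨x, hXW hx⟩ : W), s ^ k⁆, ?_, rfl⟩
    have hsk : s ^ k ∈ Char.charKer hχc := zpow_mem ((Char.mem_charKer hχc).2 hker) k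
    rw [commutatorElement_def]
    exact mul_mem (Normal.conj_mem ‹(Char.charKer hχc).Normal› _ hsk _) (inv_mem hsk)
  obtain ⟨w, hw, hwa⟩ := hM ha
  have hwG0 : w ∈ G0 := by rw [hG0, mem_subgroupOf, show (w : G) = a from hwa]; exact a.2
  have h1 := hres ⟨w, hwG0⟩
  rw [(Char.mem_charKer hχc).1 hw] at h1
  have h2 := hres 1
  rw [OneMemClass.coe_one, h1] at h2
  have h3 : e ⟨w, hwG0⟩ = a := Subtype.ext hwa
  calc (θ : X → ℂ) a = (θ' : G0 → ℂ) ⟨w, hwG0⟩ := by
        rw [← h3]; rfl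
    _ = (θ' : G0 → ℂ) 1 := h2
    _ = (θ : X → ℂ) 1 := by
        show (θ : X → ℂ) (e 1) = _
        rw [map_one]

/-- `C_X(H)` meets `[X, v]` trivially. -/
theorem inf_commutator_eq_one (hK : KData p H X D v) (hp2 : p ≠ 2) {y : G} (hyX : y ∈ X)
    (hyM : y ∈ ⁅X, zpowers v⁆) (hyH : ∀ h ∈ H, h * y * h⁻¹ = y) : y = 1 := by
  by_contra hne
  let φ : H →* MulAut X :=
    { toFun := fun h =>
        { toFun := fun a => ⟨(h : G) * a * (h : G)⁻¹, (mem_normalizer_iff.1 (hK.norm h.2) _).1 a.2⟩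
          invFun := fun a => ⟨(h : G)⁻¹ * a * (h : G),
            (mem_normalizer_iff''.1 (hK.norm h.2) _).1 a.2⟩
          left_inv := fun a => Subtype.ext
            (show (h : G)⁻¹ * ((h : G) * a * (h : G)⁻¹) * (h : G) = a by group)
          right_inv := fun a => Subtype.ext
            (show (h : G) * ((h : G)⁻¹ * a * (h : G)) * (h : G)⁻¹ = a by group)
          map_mul' := fun a a' => Subtype.ext (show (h : G) * (a * a') * (h : G)⁻¹ =
            (h : G) * a * (h : G)⁻¹ * ((h : G) * a' * (h : G)⁻¹) by group) }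
      map_one' := MulEquiv.ext fun a => Subtype.ext (show (1 : G) * a * (1 : G)⁻¹ = a by group)
      map_mul' := fun h h' => MulEquiv.ext fun a => Subtype.ext
        (show ((h : G) * h') * a * ((h : G) * h')⁻¹ = h * (h' * a * (h' : G)⁻¹) * (h : G)⁻¹ by group) }
  set yy : X := ⟨y, hyX⟩
  set π := Glauberman.irrPerm φ
  have hint : ∀ (θ : Cfsg.IrrCharacter X) (a : X), IsIntegral ℤ ((θ : X → ℂ) a) := fun θ a =>
    Char.IsCharacter.isIntegral (Char.isCharacter_irr θ) a
  have hfix : ∀ (s : H) (a : X), (∀ h ∈ H, h * (a : G) * h⁻¹ = a) → ∀ θ : Cfsg.IrrCharacter X,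
      ((π s θ : Cfsg.IrrCharacter X) : X → ℂ) a = (θ : X → ℂ) a := by
    intro s a ha θ
    rw [Glauberman.irrPerm_apply, show (φ s).symm a = a by
      rw [MulEquiv.symm_apply_eq]; exact Subtype.ext (ha s s.2).symm]
  have h1fix : ∀ h ∈ H, h * ((1 : X) : G) * h⁻¹ = ((1 : X) : G) := fun h _ => by simp
  have hA := Glauberman.cong_sum_fixed hK.pgroup π
    (fun θ => (θ : X → ℂ) 1 * (θ : X → ℂ) yy) (fun θ => (hint θ 1).mul (hint θ yy))
    (fun s θ => by rw [hfix s 1 h1fix θ, hfix s yy hyH θ])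
  have hB := Glauberman.cong_sum_fixed hK.pgroup π
    (fun θ => (θ : X → ℂ) 1 * (θ : X → ℂ) 1) (fun θ => (hint θ 1).mul (hint θ 1))
    (fun s θ => by rw [hfix s 1 h1fix θ])
  rw [Char.regular_eq_sum_irr, if_neg (fun h => hne (congrArg Subtype.val h))] at hA
  rw [Char.regular_eq_sum_irr, if_pos rfl] at hB
  rw [Finset.sum_congr rfl fun θ hθ => by
    rw [mem_charKer_of_invariant hK hp2 θ (fun h hh a b hb => by
      have h2 := Glauberman.irrPerm_fixed_iff.1 (Finset.mem_filter.1 hθ).2 ⟨h, hh⟩ a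
      rwa [show φ ⟨h, hh⟩ a = b from Subtype.ext hb.symm] at h2) (a := yy) hyM]] at hA
  exact hp.out.coprime_iff_not_dvd.1 hK.cop.symm
    ((Glauberman.Cong.nat_zero_iff hp.out.ne_zero _).1 (hB.trans hA.symm))

end CfsgLib.LocalEvenB.ExtremelyClosedOdd
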