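import Cfsg.Agent.S0943
import Cfsg.Agent.Lib.Involution.ZStar.PrincipalBlock
import Cfsg.Agent.Lib.Blocks.PrincipalColumns
import Cfsg.Agent.Lib.LocalEvenB.ExtremelyClosedOdd.Basic
import Cfsg.Agent.Lib.Char.Linear
import Cfsg.Agent.Lib.Blocks.Eigen
import Cfsg.Agent.Lib.Coprime.Sylow

/-!
# Elements of odd prime order without fusion modulo `p'`-elements

An element `x` of odd order `p` whose conjugates all differ from it by elements of a `p'`-subgroup
normalized by `x`, with centralizer of `x` in it inside the `p'`-core of `C(x)`, is central when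
the `p'`-core of the group is trivial.  The proof uses the principal block.
-/

set_option autoImplicit false
set_option linter.unusedSectionVars false

namespace CfsgLib.LocalEvenB.ExtremelyClosedOdd

open Subgroup
open scoped Classical ComplexConjugate

universe u

/-- The hypothesis on `x`. -/
structure ZHyp (p : ℕ) {G : Type u} [Group G] (x : G) : Prop where
  ord : orderOf x = p
  fus : ∀ g : G, ∃ K : Subgroup G, (Nat.card K).Coprime p ∧ x ∈ normalizer (K : Set G) ∧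
    x⁻¹ * (g * x * g⁻¹) ∈ K ∧ ∀ y ∈ K, Commute y x → ∃ N : Subgroup G, (Nat.card N).Coprime p ∧
      N ≤ centralizer ({x} : Set G) ∧
      (∀ z ∈ centralizer ({x} : Set G), ∀ w ∈ N, z * w * z⁻¹ ∈ N) ∧ y ∈ N

section Block

variable {G : Type u} [Group G] [Fintype G] {p : ℕ} [hp : Fact p.Prime] {x : G}
  {M : Ideal Cfsg.AlgInt}

theorem pow_order (hx : ZHyp p x) {c : ℕ} (hc : ¬ p ∣ c) : orderOf (x ^ c) = p := by
  refine orderOf_eq_prime (by rw [← pow_mul, mul_comm, pow_mul, ← hx.ord, pow_orderOf_eq_one, one_pow]) ?_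
  intro h
  rw [← orderOf_dvd_iff_pow_eq_one, hx.ord] at h
  exact hc h

theorem commute_of_pow (hx : ZHyp p x) {c : ℕ} (hc : ¬ p ∣ c) {z : G} (h : Commute z (x ^ c)) :
    Commute z x := by
  obtain ⟨d, hd⟩ := exists_pow_eq_self_of_coprime (x := x) (n := c)
    (by rw [hx.ord]; exact (hp.out.coprime_iff_not_dvd.2 hc).symm)
  rw [← hd]
  exact h.pow_right d

theorem apply_pow_mul (hM : Cfsg.IsPModular p M) (hx : ZHyp p x) {χ : Cfsg.IrrCharacter G}
    (hχ : χ ∈ Cfsg.principalBlock M G) {c : ℕ} (hc : ¬ p ∣ c) {N : Subgroup G}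
    (hN : (Nat.card N).Coprime p) (hNC : N ≤ centralizer ({x} : Set G))
    (hNn : ∀ z ∈ centralizer ({x} : Set G), ∀ w ∈ N, z * w * z⁻¹ ∈ N) {y : G} (hy : y ∈ N) :
    (χ : G → ℂ) (x ^ c * y) = (χ : G → ℂ) (x ^ c) := by
  have hmem : ∀ z, z ∈ centralizer ({x ^ c} : Set G) ↔ z ∈ centralizer ({x} : Set G) := fun z => by
    simp only [mem_centralizer_singleton_iff]
    exact ⟨fun h => (commute_of_pow hx hc h).eq, fun h => (Commute.pow_right h c).eq⟩
  have hle : N ≤ centralizer ({x ^ c} : Set G) := fun w hw => (hmem w).2 (hNC hw)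
  have hn : (N.subgroupOf (centralizer ({x ^ c} : Set G))).Normal :=
    ⟨fun w hw z => hNn z ((hmem z).1 z.2) w hw⟩
  exact CfsgLib.Involution.ZStar.apply_section hM hχ (w := x ^ c)
    ⟨1, by rw [pow_order hx hc, pow_one]⟩ hn
    (by rw [Nat.card_congr (subgroupOfEquivOfLe hle).toEquiv]
        exact hp.out.coprime_iff_not_dvd.1 hN.symm)
    (r := ⟨y, hle hy⟩) hy

theorem pair_value (hM : Cfsg.IsPModular p M) (hx : ZHyp p x) {χ : Cfsg.IrrCharacter G}
    (hχ : χ ∈ Cfsg.principalBlock M G) {a b : ℕ} (hab : ¬ p ∣ a + b) :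
    (χ : G → ℂ) (x ^ a) * (χ : G → ℂ) (x ^ b) = (χ : G → ℂ) 1 * (χ : G → ℂ) (x ^ (a + b)) := by
  rw [pow_add]
  refine Cfsg.Agent.S0943.result χ (x ^ a) (x ^ b) fun x' y' hx' hy' => ?_
  rw [← pow_add]
  obtain ⟨h, rfl⟩ := isConj_iff.1 hx'
  obtain ⟨g, rfl⟩ := isConj_iff.1 hy'
  have hcf := CfsgLib.Char.IsIrrCharacter.isClassFunction χ.2
  rw [show h * x ^ a * h⁻¹ * (g * x ^ b * g⁻¹) =
    h * (x ^ a * ((h⁻¹ * g) * x ^ b * (h⁻¹ * g)⁻¹)) * h⁻¹ by group, hcf]
  obtain ⟨K, hK, hxK, hk0, hKN⟩ := hx.fus (h⁻¹ * g)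
  rw [← conj_pow]
  set k0 := x⁻¹ * (h⁻¹ * g * x * (h⁻¹ * g)⁻¹) with hk0'
  have key : ∀ j : ℕ, (x ^ j)⁻¹ * (h⁻¹ * g * x * (h⁻¹ * g)⁻¹) ^ j ∈ K := by
    intro j
    induction j with
    | zero => simp
    | succ j ih =>
      rw [show (x ^ (j + 1))⁻¹ * (h⁻¹ * g * x * (h⁻¹ * g)⁻¹) ^ (j + 1) =
        x⁻¹ * ((x ^ j)⁻¹ * (h⁻¹ * g * x * (h⁻¹ * g)⁻¹) ^ j) * x⁻¹⁻¹ * k0 by
          rw [pow_succ (h⁻¹ * g * x * (h⁻¹ * g)⁻¹) j, pow_succ x j, hk0']; group]
      exact mul_mem ((mem_normalizer_iff.1 (inv_mem hxK) _).1 ih) hk0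
  have hwK : (x ^ (a + b))⁻¹ * (x ^ a * (h⁻¹ * g * x * (h⁻¹ * g)⁻¹) ^ b) ∈ K := by
    rw [show (x ^ (a + b))⁻¹ * (x ^ a * (h⁻¹ * g * x * (h⁻¹ * g)⁻¹) ^ b) =
      (x ^ b)⁻¹ * (h⁻¹ * g * x * (h⁻¹ * g)⁻¹) ^ b by rw [pow_add]; group]
    exact key b
  obtain ⟨k, hk, y, hy, hyx, he⟩ := exists_conj_coset hK (m := 1)
    (by rw [pow_order hx hab, pow_one]) (pow_mem hxK (a + b)) hwK
  rw [← hcf _ k, he]
  obtain ⟨N, hN, hNC, hNn, hyN⟩ := hKN y hy (commute_of_pow hx hab hyx)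
  exact apply_pow_mul hM hx hχ hab hN hNC hNn hyN

theorem linear_of_norm {t : G} (htop : ∀ N : Subgroup G, N.Normal → t ∈ N → N = ⊤)
    (χ : Cfsg.IrrCharacter G)
    (h : (χ : G → ℂ) t * conj ((χ : G → ℂ) t) = (χ : G → ℂ) 1 ^ 2) :
    ∃ φ : G →* ℂˣ, (χ : G → ℂ) = fun g => (φ g : ℂ) := by
  obtain ⟨n, ρ, hρ, he⟩ := χ.2
  have hval : ∀ g, (χ : G → ℂ) g = ρ.character g := fun g => (congrFun he g).symm
  have hfr : Module.finrank ℂ (Fin n → ℂ) = n := Module.finrank_fin_fun ℂ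
  have hnorm : ‖ρ.character t‖ = (n : ℝ) := by
    have h1 := congrArg (‖·‖) h
    simp only [norm_pow, norm_mul, RCLike.norm_conj, hval, Representation.char_one, hfr,
      Complex.norm_natCast, ← pow_two] at h1
    exact (sq_eq_sq₀ (norm_nonneg _) (Nat.cast_nonneg n)).1 h1
  obtain ⟨ω, hω, hωt, -⟩ :=
    CfsgLib.Char.exists_scalar_of_norm_char_eq ρ t (by rw [hnorm, hfr])
  let N : Subgroup G := MonoidHom.ker ρ
  have hcomm : ∀ g, g * t * g⁻¹ * t⁻¹ ∈ N := by
    intro g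
    show ρ (g * t * g⁻¹ * t⁻¹) = 1
    have h1 : ρ (g * t * g⁻¹) = ρ t := by
      have hgg : ρ g * ρ g⁻¹ = 1 := by rw [← map_mul, mul_inv_cancel, map_one]
      rw [map_mul, map_mul, hωt, ← Module.End.one_eq_id, Algebra.mul_smul_comm, mul_one,
        Algebra.smul_mul_assoc, hgg]
    rw [map_mul, h1, ← map_mul, mul_inv_cancel, map_one]
  have hN : N.Normal := MonoidHom.normal_ker ρ
  have hL : N ⊔ zpowers t = ⊤ := by
    refine htop _ ⟨fun a ha g => ?_⟩ (mem_sup_right (mem_zpowers t))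
    obtain ⟨m, hm, _, ⟨k, rfl⟩, rfl⟩ := mem_sup_of_normal_left.1 ha
    rw [← conj_mul]
    refine mul_mem (mem_sup_left (hN.conj_mem m hm g)) ?_
    simp only
    rw [← conj_zpow]
    refine zpow_mem ?_ k
    have := mul_mem (mem_sup_left (T := zpowers t) (hcomm g))
      (mem_sup_right (mem_zpowers t))
    rwa [inv_mul_cancel_right] at this
  have hall : ∀ g, ‖(χ : G → ℂ) g‖ = (n : ℝ) := by
    intro g
    obtain ⟨m, hm, _, ⟨k, rfl⟩, rfl⟩ :=
      mem_sup_of_normal_left.1 (hL ▸ mem_top g : g ∈ N ⊔ zpowers t)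
    have hm' : ρ m = 1 := hm
    obtain ⟨j, hj⟩ : ∃ j : ℕ, t ^ k = t ^ j := by
      obtain ⟨j, -, hj⟩ := Finset.mem_image.1
        ((mem_zpowers_iff_mem_range_orderOf).1 (zpow_mem_zpowers t k))
      exact ⟨j, hj.symm⟩
    simp only [hval, hj, Representation.character, map_mul, hm', one_mul, map_pow, hωt,
      ← Module.End.one_eq_id]
    rw [smul_pow, one_pow, map_smul, LinearMap.trace_one, hfr, smul_eq_mul, norm_mul, norm_pow, hω,
      one_pow, one_mul, Complex.norm_natCast]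
  have hinner := CfsgLib.Char.classInner_irr_self χ.2
  rw [Cfsg.classInner, inv_mul_eq_iff_eq_mul₀ CfsgLib.Char.card_ne_zero, mul_one] at hinner
  have hterm : ∀ g, (χ : G → ℂ) g * conj ((χ : G → ℂ) g) = ((n : ℂ) ^ 2) := fun g => by
    rw [Complex.mul_conj, Complex.normSq_eq_norm_sq, hall g]
    push_cast; rfl
  simp only [hterm, Finset.sum_const, Finset.card_univ, nsmul_eq_mul,
    ← Nat.card_eq_fintype_card] at hinner
  rw [mul_right_eq_self₀] at hinner
  have hn1 : n = 1 := by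
    rcases hinner with hinner | hinner
    · have h2 : n ^ 2 = 1 := by exact_mod_cast hinner
      simpa using h2
    · exact absurd hinner CfsgLib.Char.card_ne_zero
  refine CfsgLib.Char.exists_hom_of_apply_one_eq_one (CfsgLib.Char.isCharacter_irr χ) ?_
  rw [hval, Representation.char_one, hfr, hn1, Nat.cast_one]

theorem linear_of_ne_zero (hM : Cfsg.IsPModular p M) (hp2 : p ≠ 2) (hx : ZHyp p x)
    (htop : ∀ N : Subgroup G, N.Normal → x ∈ N → N = ⊤) {χ : Cfsg.IrrCharacter G}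
    (hχ : χ ∈ Cfsg.principalBlock M G) (h0 : (χ : G → ℂ) x ≠ 0) :
    ∃ φ : G →* ℂˣ, (χ : G → ℂ) = fun g => (φ g : ℂ) := by
  have h3 : 3 ≤ p := by
    have := hp.out.two_le
    omega
  have h2d : ¬ p ∣ 1 + 1 := fun h => by
    have := Nat.le_of_dvd two_pos h
    omega
  have hp1 : ¬ p ∣ (p - 1) + 2 := fun h => by
    rw [show p - 1 + 2 = p + 1 by omega, Nat.dvd_add_right dvd_rfl, Nat.dvd_one] at h
    omega
  have e1 := pair_value hM hx hχ (a := 1) (b := 1) h2d
  have e2 := pair_value hM hx hχ (a := p - 1) (b := 2) hp1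
  rw [pow_one] at e1
  have hinv : x ^ (p - 1) = x⁻¹ := eq_inv_of_mul_eq_one_left (by
    rw [← pow_succ, Nat.sub_add_cancel hp.out.one_le, ← hx.ord, pow_orderOf_eq_one])
  have hnext : x ^ (p - 1 + 2) = x := by
    rw [show p - 1 + 2 = p + 1 by omega, pow_succ, ← hx.ord, pow_orderOf_eq_one, one_mul]
  rw [hinv, hnext, ← CfsgLib.Blocks.conj_irr] at e2
  rw [show (1 : ℕ) + 1 = 2 from rfl] at e1
  refine linear_of_norm htop χ ?_
  refine mul_left_cancel₀ h0 ?_
  linear_combination conj ((χ : G → ℂ) x) * e1 + (χ : G → ℂ) 1 * e2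

theorem absurd_of_htop (hp2 : p ≠ 2) (hx : ZHyp p x)
    (htop : ∀ N : Subgroup G, N.Normal → x ∈ N → N = ⊤) (hO : Cfsg.pPrimeCore p G = ⊥) :
    ∀ g, g * x = x * g := by
  obtain ⟨M, hM⟩ := CfsgLib.Blocks.exists_isPModular hp.out
  set B := (Cfsg.principalBlock M G).toFinset with hB
  set D := commutator G with hD
  have hker : ∀ φ : G →* ℂˣ, D ≤ φ.ker := fun φ => Abelianization.commutator_subset_ker φ
  have hsup : D ⊔ zpowers x = ⊤ := by
    refine htop _ ⟨fun a ha g => ?_⟩ (mem_sup_right (mem_zpowers x))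
    have h1 : g * a * g⁻¹ * a⁻¹ ∈ D := by
      rw [hD, commutator_def]; exact commutator_mem_commutator (mem_top g) (mem_top a)
    have := mul_mem (mem_sup_left (T := zpowers x) h1) ha
    rwa [inv_mul_cancel_right] at this
  have hT : CfsgLib.Blocks.trivChar G ∈ B :=
    Set.mem_toFinset.2 (CfsgLib.Blocks.trivChar_mem_principalBlock hM)
  by_cases hxD : x ∈ D
  · exfalso
    have htopD : D = ⊤ := by rwa [sup_eq_left.2 (zpowers_le.2 hxD)] at hsup
    have h := CfsgLib.Involution.ZStar.sum_degree_mul_eq_zero hM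
      (CfsgLib.Blocks.isPBlock_principalBlock (G := G)) (g := x) (by rw [hx.ord])
    rw [← hB, Finset.sum_eq_single (CfsgLib.Blocks.trivChar G)] at h
    · simp at h
    · intro χ hχ hne
      by_contra h0
      obtain ⟨φ, hφ⟩ := linear_of_ne_zero hM hp2 hx htop (Set.mem_toFinset.1 hχ)
        (right_ne_zero_of_mul h0)
      refine hne (Subtype.ext (hφ.trans (funext fun g => ?_)))
      have : g ∈ φ.ker := hker φ (htopD ▸ mem_top g)
      simp [MonoidHom.mem_ker.1 this]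
    · exact fun h' => absurd hT h'
  by_cases hcop : (Nat.card D).Coprime p
  · haveI : D.Normal := inferInstanceAs (commutator G).Normal
    have hbot : D = ⊥ := le_bot_iff.1 (hO ▸ CfsgLib.Solvable.Cores.le_pPrimeCore hcop)
    intro g
    have h1 : g * x * g⁻¹ * x⁻¹ ∈ D := by
      rw [hD, commutator_def]; exact commutator_mem_commutator (mem_top g) (mem_top x)
    rw [hbot, mem_bot, mul_inv_eq_one, mul_inv_eq_iff_eq_mul] at h1
    exact h1
  exfalso
  haveI : D.Normal := inferInstanceAs (commutator G).Normal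
  have hxp : IsPGroup p (zpowers x) :=
    IsPGroup.of_card (n := 1) (by rw [Nat.card_zpowers, hx.ord, pow_one])
  obtain ⟨S, hS⟩ := hxp.exists_le_sylow
  set Q := (S : Subgroup G) ⊓ D with hQ
  have hpQ : p ∣ Nat.card Q := by
    rw [hQ, CfsgLib.Coprime.card_sylow_inf_normal]
    refine dvd_pow_self p ?_
    rw [← Nat.pos_iff_ne_zero]
    exact hp.out.factorization_pos_of_dvd Nat.card_pos.ne'
      (not_not.1 fun h => hcop (hp.out.coprime_iff_not_dvd.2 h).symm)
  have hxS : x ∈ (S : Subgroup G) := hS (mem_zpowers x)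
  have hconj : ∀ z ∈ zpowers x, ∀ q ∈ Q, z * q * z⁻¹ ∈ Q := fun z hz q hq =>
    have hzS : z ∈ (S : Subgroup G) := hS hz
    mem_inf.2 ⟨mul_mem (mul_mem hzS hq.1) (Subgroup.inv_mem _ hzS),
      Normal.conj_mem ‹D.Normal› q hq.2 z⟩
  letI : MulAction (zpowers x) Q :=
    { smul := fun z q => ⟨(z : G) * q * (z : G)⁻¹, hconj z z.2 q q.2⟩
      one_smul := fun q => Subtype.ext (show (1 : G) * q * (1 : G)⁻¹ = q by group)
      mul_smul := fun z z' q => Subtype.ext
        (show ((z : G) * z') * q * ((z : G) * z')⁻¹ = z * (z' * q * (z' : G)⁻¹) * (z : G)⁻¹ by group) }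
  obtain ⟨⟨r, hr⟩, hrfix, hr1⟩ := hxp.exists_fixed_point_of_prime_dvd_card_of_fixed_point Q hpQ
    (a := 1) (fun z => Subtype.ext (show (z : G) * 1 * (z : G)⁻¹ = 1 by group))
  have hrx : Commute x r := mul_inv_eq_iff_eq_mul.1 (congrArg Subtype.val (hrfix ⟨x, mem_zpowers x⟩))
  have hr1' : r ≠ 1 := fun h => hr1 (Subtype.ext h.symm)
  obtain ⟨j, hj⟩ := (S.isPGroup'.to_le (inf_le_left : Q ≤ S)) ⟨r, hr⟩
  -- replace `r` by a power of order `p`
  obtain ⟨r', hr'D, hr'x, hr'o⟩ : ∃ r' ∈ D, Commute x r' ∧ orderOf r' = p := by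
    have hdvd : orderOf r ∣ p ^ j := orderOf_dvd_of_pow_eq_one (congrArg Subtype.val hj)
    obtain ⟨i, -, hi⟩ := (Nat.dvd_prime_pow hp.out).1 hdvd
    obtain ⟨i, rfl⟩ : ∃ i', i = i' + 1 := Nat.exists_eq_succ_of_ne_zero fun h0 =>
      hr1' (orderOf_eq_one_iff.1 (by rw [hi, h0, pow_zero]))
    refine ⟨r ^ p ^ i, pow_mem hr.2 _, hrx.pow_right _, ?_⟩
    rw [orderOf_pow' _ (pow_ne_zero _ hp.out.ne_zero), hi,
      Nat.gcd_eq_right (pow_dvd_pow p (Nat.le_succ i)), pow_succ,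
      Nat.mul_div_cancel_left _ (pow_pos hp.out.pos i)]
  set z := x * r' with hz
  have hz1 : z ^ p = 1 := by
    rw [hz, hr'x.mul_pow]
    nth_rw 1 [← hx.ord]
    rw [pow_orderOf_eq_one, ← hr'o, pow_orderOf_eq_one, one_mul]
  have hzne : z ≠ 1 := fun h => hxD (by
    rw [show x = r'⁻¹ from eq_inv_of_mul_eq_one_left h]; exact inv_mem hr'D)
  have hcol := CfsgLib.Blocks.sum_principal_columns hM (y := x) (z := z)
    ⟨1, by rw [hx.ord, pow_one]⟩ ⟨1, by rw [orderOf_eq_prime hz1 hzne, pow_one]⟩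
  by_cases hconjz : IsConj x z
  · obtain ⟨g, hg⟩ := isConj_iff.1 hconjz
    obtain ⟨K, hK, -, hk, -⟩ := hx.fus g
    rw [hg, hz, inv_mul_cancel_left] at hk
    have := eq_one_of_pow hK hk (k := 1) (by rw [pow_one, ← hr'o, pow_orderOf_eq_one])
    rw [this, orderOf_one] at hr'o
    exact hp.out.ne_one hr'o.symm
  rw [if_neg hconjz] at hcol
  have hre : ∀ χ : Cfsg.IrrCharacter G,
      (CfsgLib.Blocks.blockInd (Cfsg.principalBlock M G) χ *
        ((χ : G → ℂ) x * (χ : G → ℂ) z⁻¹)).re =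
      if χ ∈ B ∧ (χ : G → ℂ) x ≠ 0 then 1 else 0 := by
    intro χ
    by_cases hχ : χ ∈ Cfsg.principalBlock M G
    · rw [CfsgLib.Blocks.blockInd_of_mem hχ, one_mul]
      by_cases h0 : (χ : G → ℂ) x = 0
      · simp [h0]
      rw [if_pos ⟨Set.mem_toFinset.2 hχ, h0⟩]
      obtain ⟨φ, hφ⟩ := linear_of_ne_zero hM hp2 hx htop hχ h0
      have hr'k : φ r' = 1 := MonoidHom.mem_ker.1 (hker φ hr'D)
      simp only [hφ, hz, map_inv, map_mul, hr'k, mul_one, ← Units.val_mul, mul_inv_cancel,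
        Units.val_one, Complex.one_re]
    · rw [CfsgLib.Blocks.blockInd_of_notMem hχ, zero_mul, Complex.zero_re, if_neg]
      exact fun h => hχ (Set.mem_toFinset.1 h.1)
  have hsum := congrArg Complex.re hcol
  simp only [Complex.re_sum, hre, Complex.zero_re] at hsum
  have hpos : (0 : ℝ) < ∑ χ : Cfsg.IrrCharacter G,
      if χ ∈ B ∧ (χ : G → ℂ) x ≠ 0 then (1 : ℝ) else 0 :=
    Finset.sum_pos' (fun χ _ => by positivity)
      ⟨CfsgLib.Blocks.trivChar G, Finset.mem_univ _, by rw [if_pos ⟨hT, by simp⟩]; norm_num⟩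
  exact hpos.ne' hsum

end Block

theorem zstar_aux {p : ℕ} [hp : Fact p.Prime] (hp2 : p ≠ 2) :
    ∀ (n : ℕ) (G : Type u) [Group G] [Finite G], Nat.card G = n → Cfsg.pPrimeCore p G = ⊥ →
      ∀ x : G, ZHyp p x → ∀ g, g * x = x * g := by
  intro n
  induction n using Nat.strong_induction_on with
  | _ n IH =>
    intro G _ _ hG hO x hx
    cases nonempty_fintype G
    by_cases hL : normalClosure ({x} : Set G) = ⊤
    · refine absurd_of_htop hp2 hx (fun N hN hxN => ?_) hO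
      exact top_le_iff.1 (hL ▸ normalClosure_le_normal (Set.singleton_subset_iff.2 hxN))
    set L := normalClosure ({x} : Set G) with hLdef
    haveI : L.Normal := normalClosure_normal
    have hxL : x ∈ L := subset_normalClosure rfl
    have hlt : Nat.card L < n :=
      hG ▸ lt_of_le_of_ne L.card_le_card_group fun h => hL (eq_top_of_card_eq L h)
    have hOL : Cfsg.pPrimeCore p L = ⊥ := by
      have h1 := CfsgLib.Components.pPrimeCore_map_subtype_le (p := p)
        (Normal.isSubnormal (‹L.Normal›))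
      rwa [hO, le_bot_iff, map_eq_bot_iff_of_injective _ L.subtype_injective] at h1
    have hsub : ∀ K : Subgroup G, (Nat.card K).Coprime p →
        (Nat.card (K.subgroupOf L)).Coprime p := fun K hK => by
      refine hK.coprime_dvd_left ?_
      rw [← card_map_of_injective L.subtype_injective, subgroupOf_map_subtype]
      exact card_dvd_of_le inf_le_left
    have hxZ : ZHyp p (⟨x, hxL⟩ : L) := by
      refine ⟨by rw [← hx.ord]; exact (Subgroup.orderOf_coe (⟨x, hxL⟩ : L)).symm, fun g => ?_⟩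
      obtain ⟨K, hK, hxK, hk, hKN⟩ := hx.fus g
      refine ⟨K.subgroupOf L, hsub K hK, ?_, hk, fun y hy hyx => ?_⟩
      · exact mem_normalizer_iff.2 fun w => mem_normalizer_iff.1 hxK (w : G)
      · obtain ⟨N, hN, hNC, hNn, hyN⟩ := hKN y hy (congrArg Subtype.val hyx)
        refine ⟨N.subgroupOf L, hsub N hN, fun w hw => ?_, fun z hz w hw => ?_, hyN⟩
        · exact mem_centralizer_singleton_iff.2
            (Subtype.ext (mem_centralizer_singleton_iff.1 (hNC hw)))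
        · exact hNn z (mem_centralizer_singleton_iff.2
            (congrArg Subtype.val (mem_centralizer_singleton_iff.1 hz))) w hw
    have hc := IH _ hlt L rfl hOL _ hxZ
    intro g
    obtain ⟨K, hK, -, hk, -⟩ := hx.fus g
    have hgx : g * x * g⁻¹ ∈ L := Normal.conj_mem ‹L.Normal› x hxL g
    have hcom : Commute (g * x * g⁻¹) x := congrArg Subtype.val (hc ⟨_, hgx⟩)
    have h1 : (x⁻¹ * (g * x * g⁻¹)) ^ p = 1 := by
      rw [hcom.symm.inv_left.mul_pow, inv_pow, conj_pow, ← hx.ord, pow_orderOf_eq_one]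
      group
    have h2 := eq_one_of_pow hK hk (k := 1) (by rwa [pow_one])
    rw [inv_mul_eq_one] at h2
    exact (mul_inv_eq_iff_eq_mul.1 h2.symm)

/-- An element with the property `ZHyp` is central when the `p'`-core is trivial. -/
theorem zstar {G : Type u} [Group G] [Finite G] {p : ℕ} [Fact p.Prime] (hp2 : p ≠ 2)
    (hO : Cfsg.pPrimeCore p G = ⊥) {x : G} (hx : ZHyp p x) (g : G) : g * x = x * g :=
  zstar_aux hp2 _ G rfl hO x hx g

end CfsgLib.LocalEvenB.ExtremelyClosedOdd
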