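import Cfsg.Agent.Lib.LocalEvenB.ExtremelyClosedOdd.RankOne
import Cfsg.Agent.Lib.LocalEvenB.ExtremelyClosedOdd.ZStar
import Cfsg.Agent.Lib.LocalEvenB.ExtremelyClosedOdd.Focal

/-!
# Extremely closed abelian `p`-subgroups, `p` odd

An extremely closed abelian `p`-subgroup is normal modulo the `p'`-core and its normal closure
meets its normalizer in it.
-/

set_option autoImplicit false
set_option linter.unusedSectionVars false

namespace CfsgLib.LocalEvenB.ExtremelyClosedOdd

open Subgroup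
open scoped commutatorElement

universe u

variable {p : ℕ} [hp : Fact p.Prime]

/-- With trivial `p'`-core, the quotient by a central element of order `p` has trivial `p'`-core. -/
theorem core_quotient_central {G : Type u} [Group G] [Finite G]
    (hO : Cfsg.pPrimeCore p G = ⊥) {v : G} (hv : orderOf v = p) (hvc : v ∈ center G)
    [(zpowers v).Normal] : Cfsg.pPrimeCore p (G ⧸ zpowers v) = ⊥ := by
  set W := zpowers v with hW
  set N := (Cfsg.pPrimeCore p (G ⧸ W)).comap (QuotientGroup.mk' W) with hNdef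
  have hN : N.Normal := (CfsgLib.Solvable.Cores.pPrimeCore_normal p).comap _
  have hWN : W ≤ N := by
    rw [← QuotientGroup.ker_mk' W, ← MonoidHom.comap_bot]; exact Subgroup.comap_mono bot_le
  have hWp : Nat.card W = p := by rw [hW, Nat.card_zpowers, hv]
  set n := Nat.card (Cfsg.pPrimeCore p (G ⧸ W)) with hn
  have hnc : n.Coprime p := CfsgLib.Solvable.Cores.coprime_card_pPrimeCore p
  have hrel : W.relIndex N = n := by
    have h1 : W = (⊥ : Subgroup (G ⧸ W)).comap (QuotientGroup.mk' W) := by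
      rw [MonoidHom.comap_bot, QuotientGroup.ker_mk']
    conv_lhs => rw [h1]
    rw [hNdef, relIndex_comap,
      map_comap_eq_self_of_surjective (QuotientGroup.mk'_surjective W), relIndex_bot_left]
  haveI : (W.subgroupOf N).Normal := inferInstance
  obtain ⟨K, hK⟩ := exists_right_complement'_of_coprime (N := W.subgroupOf N) (by
    rw [Nat.card_congr (subgroupOfEquivOfLe hWN).toEquiv, hWp]
    change Nat.Coprime p (W.relIndex N)
    rw [hrel]; exact hnc.symm)
  have hKc : Nat.card K = n := by rw [← hrel]; exact hK.symm.index_eq_card.symm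
  have hKn : (K.map N.subtype).Normal := by
    refine ⟨?_⟩
    rintro _ ⟨a, ha, rfl⟩ g
    set b : N := ⟨g * (a : G) * g⁻¹, hN.conj_mem _ a.2 g⟩
    refine ⟨b, ?_, rfl⟩
    have hpow : ∀ c ∈ K, c ^ n = 1 := fun c hc => by
      have h : (⟨c, hc⟩ : K) ^ Nat.card K = 1 := pow_card_eq_one'
      rw [hKc] at h
      exact congrArg Subtype.val h
    have hb : b ^ n = 1 := Subtype.ext (by
      have := congrArg Subtype.val (hpow a ha)
      show (g * (a : G) * g⁻¹) ^ n = 1
      rw [conj_pow, show (a : G) ^ n = 1 from this, mul_one, mul_inv_cancel])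
    obtain ⟨⟨⟨q, hq⟩, ⟨k, hk⟩⟩, hqk, -⟩ := hK.existsUnique b
    have hqk' : q * k = b := hqk
    have hcomm : Commute q k := Subtype.ext
      (Subgroup.mem_center_iff.1 (zpowers_le.2 hvc (mem_subgroupOf.1 hq)) (k : G)).symm
    rw [← hqk', hcomm.mul_pow, hpow k hk, mul_one] at hb
    have hqW : (q : G) ∈ W := mem_subgroupOf.1 hq
    have h1 : orderOf (q : G) ∣ p := hWp ▸ W.orderOf_dvd_natCard hqW
    have h2 : orderOf (q : G) ∣ n :=
      orderOf_dvd_of_pow_eq_one (congrArg Subtype.val hb)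
    have hq1 : q = 1 := Subtype.ext (orderOf_eq_one_iff.1
      (Nat.eq_one_of_dvd_coprimes hnc h2 h1))
    rw [← hqk', hq1, one_mul]
    exact hk
  have hbot : K.map N.subtype = ⊥ := le_bot_iff.1 (hO ▸ CfsgLib.Solvable.Cores.le_pPrimeCore
    (hn := hKn) (by rw [card_map_of_injective N.subtype_injective, hKc]; exact hnc))
  rw [map_eq_bot_iff_of_injective _ N.subtype_injective] at hbot
  rw [← Subgroup.card_eq_one, ← hn, ← hKc, hbot, Subgroup.card_bot]

theorem absurd_min {G : Type u} [Group G] [Finite G] {H : Subgroup G} (hM : Min p H)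
    (hp2 : p ≠ 2) : False := by
  have hH := hM.toHyp
  haveI := hH.ab
  have hHs : Group.IsSolvable H := Group.isSolvable_of_comm fun a b : H => hH.ab.is_comm.comm a b
  obtain ⟨j, hj⟩ := IsPGroup.iff_card.1 hH.pgroup
  have hj0 : j ≠ 0 := fun h0 => hM.ne (by
    rw [show H = ⊥ from card_eq_one.1 (by rw [hj, h0, pow_zero])]
    exact normalizer_eq_top_iff.2 inferInstance)
  obtain ⟨v0, hv0⟩ := exists_prime_orderOf_dvd_card' (G := H) p (hj ▸ dvd_pow_self p hj0)
  rw [← Subgroup.orderOf_coe] at hv0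
  set v := (v0 : G) with hvdef
  have hvO : Om p H v := ⟨v0.2, by rw [← hv0, pow_orderOf_eq_one]⟩
  have hv1 : v ≠ 1 := fun h => hp.out.ne_one (by rw [← hv0, h, orderOf_one])
  obtain ⟨g, hg⟩ := hM.noncentral v hvO hv1
  have hO : Cfsg.pPrimeCore p G = ⊥ := hM.core_bot _ (CfsgLib.Solvable.Cores.pPrimeCore_normal p)
    (CfsgLib.Solvable.Cores.coprime_card_pPrimeCore p)
  refine hg (zstar hp2 hO (x := v) ⟨hv0, fun g => ?_⟩ g)
  obtain ⟨o, ho, n, hn, rfl⟩ := decomp hH g
  set K := oc p (pair H (o * n)) with hK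
  have hHK : H ≤ normalizer (K : Set G) :=
    (le_sup_left : H ≤ pair H (o * n)).trans le_normalizer_oc
  refine ⟨K, oc_coprime, hHK hvO.1, ?_, fun y hy hyv => ?_⟩
  · rw [show v⁻¹ * (o * n * v * (o * n)⁻¹) = v⁻¹ * o * (n * v * n⁻¹) * o⁻¹ by group,
      (centralizes hM hp2 n hn v hvO).eq, mul_inv_cancel_right]
    exact mul_mem ((mem_normalizer_iff''.1 (hHK hvO.1) o).1 ho) (inv_mem ho)
  set L := centralizer ({v} : Set G) with hL
  have hLtop : L ≠ ⊤ := fun h => by
    obtain ⟨g', hg'⟩ := hM.noncentral v hvO hv1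
    exact hg' (mem_centralizer_singleton_iff.1 (h ▸ mem_top g' : g' ∈ L))
  have hHL : H ≤ L := fun h hh => mem_centralizer_singleton_iff.2 (commute_H hH hh hvO.1).eq
  refine ⟨oc p L, oc_coprime, oc_le, fun z hz w hw => oc_conj hz hw, ?_⟩
  set Kv := K ⊓ L with hKv
  have hHKv : H ≤ normalizer (Kv : Set G) :=
    (le_inf hHK (hHL.trans le_normalizer)).trans inf_normalizer_le_normalizer_inf
  have hsup := CfsgLib.Coprime.commutator_sup_centralizer hHKv
    (by rw [hj]
        exact ((oc_coprime (L := pair H (o * n))).coprime_dvd_left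
          (card_dvd_of_le inf_le_left)).symm.pow_left j)
    (Or.inl hHs)
  have hfix1 : Kv ⊓ centralizer (H : Set G) = ⊥ := eq_bot_iff.2 fun x hx => mem_bot.2
    (inf_normalizer_eq_one hH _ hx.1.1 (centralizer_le_normalizer _ hx.2))
  rw [hfix1, sup_bot_eq] at hsup
  have hle : ⁅Kv, H⁆ ≤ oc p L := by
    refine commutator_le.2 fun d hd h hh => ?_
    have hdL : d ∈ L := hd.2
    obtain ⟨n', hn', o', ho', hnL, hd'⟩ := hM.loc L hLtop hHL d hdL
    refine mem_of_coprime_orderOf hH.pgroup (hHL.trans le_normalizer_oc) ?_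
      (not_dvd_orderOf (R := K) oc_coprime ?_)
    · rw [commutatorElement_def, hd',
        show n' * o' * h * (n' * o')⁻¹ * h⁻¹ =
          n' * (o' * (h * o'⁻¹ * h⁻¹)) * n'⁻¹ * (n' * h * n'⁻¹ * h⁻¹) by group]
      refine mul_mem (mem_sup_right (oc_conj hnL (mul_mem ho' (oc_conj (hHL hh) (inv_mem ho')))))
        (mem_sup_left ?_)
      exact mul_mem ((mem_normalizer_iff.1 hn' h).1 hh) (inv_mem hh)
    · rw [commutatorElement_def, show d * h * d⁻¹ * h⁻¹ = d * (h * d⁻¹ * h⁻¹) by group]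
      exact mul_mem hd.1 ((mem_normalizer_iff.1 (hHK hh) _).1 (inv_mem hd.1))
  exact hle (hsup.ge ⟨hy, mem_centralizer_singleton_iff.2 hyv.eq⟩)

theorem main_aux (hp2 : p ≠ 2) : ∀ (n : ℕ) (G : Type u) [Group G] [Finite G], Nat.card G = n →
    ∀ H : Subgroup G, Hyp p H → normalizer (H : Set G) ⊔ Cfsg.pPrimeCore p G = ⊤ := by
  intro n
  induction n using Nat.strong_induction_on with
  | _ n IH =>
    intro G _ _ hG H hH
    haveI hOn : (Cfsg.pPrimeCore p G).Normal := CfsgLib.Solvable.Cores.pPrimeCore_normal p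
    by_cases hO : Cfsg.pPrimeCore p G = ⊥
    swap
    · set O := Cfsg.pPrimeCore p G
      have hlt : Nat.card (G ⧸ O) < n := by
        have h2 : 1 < Nat.card O := by
          haveI := (Subgroup.nontrivial_iff_ne_bot O).2 hO
          exact Finite.one_lt_card
        rw [← hG, card_eq_card_quotient_mul_card_subgroup O]
        exact lt_mul_of_one_lt_right Nat.card_pos h2
      have hN := IH _ hlt (G ⧸ O) rfl _ (hyp_quotient hH O)
      rw [CfsgLib.Components.pPrimeCore_quotient_eq_bot, sup_bot_eq] at hN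
      refine eq_top_iff.2 fun g _ => ?_
      obtain ⟨o, -, ho, m, hm, rfl⟩ := decomp_quotient hH O (k := g) (hN ▸ mem_top _)
      exact mul_mem (sup_le_sup_right le_normalizer O ho) (mem_sup_left hm)
    rw [hO, sup_bot_eq]
    by_contra hne
    by_cases hcen : ∃ v, Om p H v ∧ v ≠ 1 ∧ ∀ g, g * v = v * g
    · obtain ⟨v, hvO, hv1, hvc⟩ := hcen
      have hvo : orderOf v = p := orderOf_eq_prime hvO.2 hv1
      have hzc : v ∈ center G := Subgroup.mem_center_iff.2 hvc
      haveI hZ : (zpowers v).Normal :=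
        ⟨fun x hx g => by
          rwa [Subgroup.mem_center_iff.1 (zpowers_le.2 hzc hx) g, mul_inv_cancel_right]⟩
      have hlt : Nat.card (G ⧸ zpowers v) < n := by
        rw [← hG, card_eq_card_quotient_mul_card_subgroup (zpowers v)]
        exact lt_mul_of_one_lt_right Nat.card_pos (by rw [Nat.card_zpowers, hvo]; exact hp.out.one_lt)
      have hN := IH _ hlt (G ⧸ zpowers v) rfl _ (hyp_quotient hH (zpowers v))
      rw [core_quotient_central hO hvo hzc, sup_bot_eq] at hN
      refine hne (eq_top_iff.2 fun g _ => ?_)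
      obtain ⟨o, -, ho, m, hm, rfl⟩ :=
        decomp_quotient hH (zpowers v) (k := g) (hN ▸ mem_top _)
      rw [sup_eq_left.2 (zpowers_le.2 hvO.1)] at ho
      exact mul_mem (le_normalizer ho) hm
    refine absurd_min (H := H)
      ⟨hH, hne, fun R hR hcop => ?_, fun L hL hHL x hx => ?_, fun v hv hv1 => ?_⟩ hp2
    · exact le_bot_iff.1 (hO ▸ CfsgLib.Solvable.Cores.le_pPrimeCore (hn := hR) hcop)
    · have hlt : Nat.card L < n := hG ▸ lt_of_le_of_ne L.card_le_card_group
        fun h => hL (eq_top_of_card_eq L h)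
      have hN := IH _ hlt L rfl _ (hyp_subgroupOf hH hHL)
      haveI : (Cfsg.pPrimeCore p L).Normal := CfsgLib.Solvable.Cores.pPrimeCore_normal p
      obtain ⟨m, hm, o, ho, hmo⟩ := mem_sup_of_normal_right.1
        (hN ▸ mem_top (⟨x, hx⟩ : L) :
          (⟨x, hx⟩ : L) ∈ normalizer ((H.subgroupOf L : Subgroup L) : Set L) ⊔ Cfsg.pPrimeCore p L)
      refine ⟨m, ?_, o, ⟨o, ho, rfl⟩, m.2, (congrArg Subtype.val hmo).symm⟩
      refine CfsgLib.Coprime.mem_normalizer_of_conj_map_le fun y hy => ?_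
      exact (mem_normalizer_iff.1 hm ⟨y, hHL hy⟩).1 hy
    · by_contra hc
      push Not at hc
      exact hcen ⟨v, hv, hv1, hc⟩

/-- The factorisation and the intersection of the normal closure with the normalizer. -/
theorem main {G : Type u} [Group G] [Finite G] (hp2 : p ≠ 2) (H : Subgroup G) (hHp : IsPGroup p H)
    (hab : IsMulCommutative H) (hcl : Cfsg.IsExtremelyClosed H) :
    normalClosure (H : Set G) ⊓ normalizer (H : Set G) = H ∧
      normalizer (H : Set G) ⊔ Cfsg.pPrimeCore p G = ⊤ := by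
  have hH : Hyp p H := ⟨hHp, hab, hcl⟩
  have htop := main_aux hp2 _ G rfl H hH
  refine ⟨le_antisymm ?_ (le_inf (fun x hx => subset_normalClosure hx) le_normalizer), htop⟩
  set O := Cfsg.pPrimeCore p G
  haveI hOn : O.Normal := CfsgLib.Solvable.Cores.pPrimeCore_normal p
  have hOc : (Nat.card O).Coprime p := CfsgLib.Solvable.Cores.coprime_card_pPrimeCore p
  have hHO : H ≤ normalizer (O : Set G) := by rw [normalizer_eq_top_iff.2 hOn]; exact le_top
  set X := ⁅O, H⁆ with hX
  have hXO : X ≤ O := le_normalizer_iff_commutator_le_left.1 hHO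
  have hHX : H ≤ normalizer (X : Set G) := normalizer_commutator_ge_right O H
  have hle : normalClosure (H : Set G) ≤ X ⊔ H := by
    refine (closure_le _).2 fun x hx => ?_
    obtain ⟨h, hh, hc⟩ := Group.mem_conjugatesOfSet_iff.1 hx
    obtain ⟨g, rfl⟩ := isConj_iff.1 hc
    obtain ⟨o, ho, n, hn, rfl⟩ := mem_sup_of_normal_left.1
      (show g ∈ O ⊔ normalizer (H : Set G) by rw [sup_comm, htop]; trivial)
    have hnh : n * h * n⁻¹ ∈ H := (mem_normalizer_iff.1 hn h).1 hh
    rw [show o * n * h * (o * n)⁻¹ = ⁅o, n * h * n⁻¹⁆ * (n * h * n⁻¹) by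
      rw [commutatorElement_def]; group]
    exact mul_mem_sup (commutator_mem_commutator ho hnh) hnh
  intro x hx
  obtain ⟨a, ha, b, hb, rfl⟩ := (CfsgLib.Coprime.mem_sup_of_le_normalizer hHX).1 (hle hx.1)
  have haN : a ∈ normalizer (H : Set G) :=
    (Subgroup.mul_mem_cancel_right _ (le_normalizer hb)).1 hx.2
  have hbot : H ⊓ X = ⊥ := CfsgLib.Fusion.Basic.inf_eq_bot_of_coprime hHp
    (hOc.coprime_dvd_left (card_dvd_of_le hXO))
  have ha1 : a = 1 := focal hp2 hH hHO hOc ha (mem_centralizer_iff.2 fun h hh => by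
    have h1 : a * h * a⁻¹ * h⁻¹ ∈ H ⊓ X := by
      refine mem_inf.2 ⟨Subgroup.mul_mem _ ((mem_normalizer_iff.1 haN h).1 hh) (Subgroup.inv_mem _ hh), ?_⟩
      rw [show a * h * a⁻¹ * h⁻¹ = a * (h * a⁻¹ * h⁻¹) by group]
      exact mul_mem ha ((mem_normalizer_iff.1 (hHX hh) _).1 (inv_mem ha))
    rw [hbot, mem_bot, mul_inv_eq_one, mul_inv_eq_iff_eq_mul] at h1
    exact h1.symm)
  rw [ha1, one_mul]
  exact hb

end CfsgLib.LocalEvenB.ExtremelyClosedOdd
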