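import Cfsg.Agent.Lib.LocalEvenB.ExtremelyClosedOdd.Conjugates

/-!
# Triangles of conjugates of a cyclic extremely closed subgroup

For a cyclic `H` the composite of the canonical maps around a triangle of conjugates is trivial on
the elements of order `p`.  This is shown by counting the triangles with nontrivial composite.
-/

set_option autoImplicit false
set_option linter.unusedSectionVars false

namespace CfsgLib.LocalEvenB.ExtremelyClosedOdd

open Subgroup

universe u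

variable {G : Type u} [Group G] [Finite G] {p : ℕ} [hp : Fact p.Prime] {H : Subgroup G} {m : ℕ}

/-- A cyclic extremely closed subgroup of order `p ^ (m + 1)`. -/
structure Cyc (p m : ℕ) (H : Subgroup G) : Prop where
  hyp : Hyp p H
  card : Nat.card H = p ^ (m + 1)

/-- A generator of a conjugate together with two conjugates. -/
abbrev Tri (H : Subgroup G) : Type u :=
  {t : G × Subgroup G × Subgroup G // IsCj H (zpowers t.1) ∧ IsCj H t.2.1 ∧ IsCj H t.2.2}

/-- The composite of the canonical maps around the triangle. -/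
noncomputable def loop (p : ℕ) (P Q S : Subgroup G) (x : G) : G :=
  ph p S P (ph p Q S (ph p P Q x))

/-- The composite moves the elements of order `p`. -/
def Bad (p m : ℕ) (t : Tri H) : Prop :=
  loop p (zpowers t.1.1) t.1.2.1 t.1.2.2 (t.1.1 ^ p ^ m) ≠ t.1.1 ^ p ^ m

theorem Cyc.orderOf_gen (hH : Cyc p m H) {a : G} (ha : IsCj H (zpowers a)) :
    orderOf a = p ^ (m + 1) := by
  rw [← Nat.card_zpowers, ha.card_eq, hH.card]

theorem Cyc.orderOf_top (hH : Cyc p m H) {a : G} (ha : IsCj H (zpowers a)) :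
    orderOf (a ^ p ^ m) = p := by
  refine orderOf_eq_prime (by rw [← pow_mul, ← pow_succ, ← hH.orderOf_gen ha, pow_orderOf_eq_one]) ?_
  intro h
  have h1 := orderOf_dvd_of_pow_eq_one h
  rw [hH.orderOf_gen ha] at h1
  have h2 := (Nat.pow_dvd_pow_iff_le_right hp.out.one_lt).1 h1
  omega

theorem Cyc.zpowers_eq_of_pow_ne (hH : Cyc p m H) {a x : G} (ha : IsCj H (zpowers a))
    (hx : x ∈ zpowers a) (hne : x ^ p ^ m ≠ 1) : zpowers x = zpowers a := by
  refine eq_of_le_of_card_ge (zpowers_le.2 hx) ?_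
  have h1 : orderOf x ∣ p ^ (m + 1) :=
    hH.orderOf_gen ha ▸ Nat.card_zpowers a ▸ (zpowers a).orderOf_dvd_natCard hx
  obtain ⟨j, hj, hjx⟩ := (Nat.dvd_prime_pow hp.out).1 h1
  have hjm : ¬ j ≤ m := fun hle =>
    hne (orderOf_dvd_iff_pow_eq_one.1 (hjx ▸ pow_dvd_pow p hle))
  rw [Nat.card_zpowers, Nat.card_zpowers, hH.orderOf_gen ha, hjx, show j = m + 1 by omega]

theorem Cyc.zpowers_zpow (hH : Cyc p m H) {a : G} (ha : IsCj H (zpowers a)) {i : ℤ}
    (hi : IsCoprime i (p : ℤ)) : zpowers (a ^ i) = zpowers a := by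
  refine le_antisymm (zpowers_le.2 (zpow_mem (mem_zpowers a) i)) (zpowers_le.2 ?_)
  obtain ⟨r, s, hrs⟩ := hi.pow_right (n := m + 1)
  refine mem_zpowers_iff.2 ⟨r, ?_⟩
  rw [← zpow_mul]
  conv_rhs => rw [← zpow_one a, ← hrs, zpow_add]
  rw [show s * (p : ℤ) ^ (m + 1) = ((p ^ (m + 1) : ℕ) : ℤ) * s by push_cast; ring, zpow_mul a _ s,
    zpow_natCast, ← hH.orderOf_gen ha, pow_orderOf_eq_one, one_zpow, mul_one, mul_comm]

theorem zpowers_ph (hH : Hyp p H) {A B : Subgroup G} (hA : IsCj H A) (hB : IsCj H B) {a : G}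
    (ha : zpowers a = A) : zpowers (ph p A B a) = B := by
  rw [ph, ← cj_zpowers, ha, (mv_spec hH hA hB).2]

/-- The elements of order `p` of a conjugate are powers of the top one. -/
theorem Cyc.mem_top (hH : Cyc p m H) {a x : G} (ha : IsCj H (zpowers a)) (hx : x ∈ zpowers a)
    (hxp : x ^ p = 1) : ∃ k : ℤ, x = (a ^ p ^ m) ^ k := by
  obtain ⟨k, rfl⟩ := mem_zpowers_iff.1 hx
  have h1 : a ^ (k * (p : ℤ)) = 1 := by rw [zpow_mul, zpow_natCast, hxp]
  rw [← orderOf_dvd_iff_zpow_eq_one, hH.orderOf_gen ha] at h1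
  push_cast at h1
  rw [pow_succ] at h1
  obtain ⟨j, rfl⟩ := Int.dvd_of_mul_dvd_mul_right (by exact_mod_cast hp.out.ne_zero) h1
  exact ⟨j, by rw [← zpow_natCast, ← zpow_mul]; push_cast; rfl⟩

/-- The first conjugate of the new triangle. -/
noncomputable def newGen (p : ℕ) (t : Tri H) : G := mv p (zpowers t.1.1) t.1.2.1 * t.1.1

theorem newGen_spec (hH : Cyc p m H) (t : Tri H) :
    IsCj H (zpowers (newGen p t)) ∧ zpowers (newGen p t) ≤ zpowers t.1.1 ⊔ t.1.2.1 ∧
      ph p (zpowers t.1.1) (zpowers (newGen p t)) t.1.1 = newGen p t ∧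
      cj (newGen p t) (zpowers t.1.1) = t.1.2.1 := by
  obtain ⟨hk, hkP⟩ := mv_spec hH.hyp t.2.1 t.2.2.1
  obtain ⟨h1, h2, h3⟩ := rotate hH.hyp t.2.2.1 (rfl : zpowers t.1.1 = _) t.2.1 hk
  exact ⟨h1, h2, h3, by rw [newGen, ← cj_cj, cj_eq_self (mem_zpowers _), hkP]⟩

/-- The element of the third conjugate of the new triangle. -/
noncomputable def newElt (p : ℕ) (i : ℤ) (t : Tri H) : G :=
  mv p t.1.2.1 t.1.2.2 * ph p (zpowers t.1.1) t.1.2.1 (t.1.1 ^ i)

theorem newElt_spec (hH : Cyc p m H) {i : ℤ} (hi : IsCoprime i (p : ℤ)) (t : Tri H) :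
    IsCj H (zpowers (newElt p i t)) ∧
      ph p t.1.2.1 (zpowers (newElt p i t)) (ph p (zpowers t.1.1) t.1.2.1 (t.1.1 ^ i)) =
        newElt p i t ∧
      cj (newElt p i t) t.1.2.1 = t.1.2.2 := by
  obtain ⟨hk, hkQ⟩ := mv_spec hH.hyp t.2.2.1 t.2.2.2
  have hz := zpowers_ph hH.hyp t.2.1 t.2.2.1 (hH.zpowers_zpow t.2.1 hi)
  obtain ⟨h1, -, h3⟩ := rotate hH.hyp t.2.2.2 hz t.2.2.1 hk
  refine ⟨h1, h3, ?_⟩
  have ha' : ph p (zpowers t.1.1) t.1.2.1 (t.1.1 ^ i) ∈ t.1.2.1 :=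
    hz.le (mem_zpowers _)
  rw [newElt, ← cj_cj, cj_eq_self ha', hkQ]

/-- The map on triangles. -/
noncomputable def next (hH : Cyc p m H) {i : ℤ} (hi : IsCoprime i (p : ℤ)) (t : Tri H) : Tri H :=
  ⟨(newGen p t, t.1.2.1, zpowers (newElt p i t)),
    (newGen_spec hH t).1, t.2.2.1, (newElt_spec hH hi t).1⟩

theorem next_injective (hH : Cyc p m H) {i : ℤ} (hi : IsCoprime i (p : ℤ)) :
    Function.Injective (next hH hi) := by
  rintro ⟨⟨a, Q, S⟩, ht⟩ ⟨⟨a', Q', S'⟩, ht'⟩ h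
  obtain ⟨-, -, -, h4⟩ := newGen_spec hH ⟨(a, Q, S), ht⟩
  obtain ⟨-, -, -, h4'⟩ := newGen_spec hH ⟨(a', Q', S'), ht'⟩
  obtain ⟨-, he, hS⟩ := newElt_spec hH hi ⟨(a, Q, S), ht⟩
  obtain ⟨-, he', hS'⟩ := newElt_spec hH hi ⟨(a', Q', S'), ht'⟩
  have hc := congrArg (fun x : Tri H => x.1.1) h
  have hA := congrArg (fun x : Tri H => x.1.2.2) h
  have hQ : Q = Q' := congrArg (fun x : Tri H => x.1.2.1) h
  simp only [next] at hc hA
  subst hQ
  dsimp only at h4 h4' he he' hS hS'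
  have h6 : ∀ c x : G, cj c⁻¹ (cj c (zpowers x)) = zpowers x := fun c x => by
    rw [cj_cj, inv_mul_cancel, cj_one]
  have hP : zpowers a = zpowers a' := by
    have e1 := h6 (newGen p ⟨(a, Q, S), ht⟩) a
    have e2 := h6 (newGen p ⟨(a', Q, S'), ht'⟩) a'
    rw [h4] at e1
    rw [h4'] at e2
    rw [hc] at e1
    exact e1.symm.trans e2
  have ha : a = a' := by
    have h5 : mv p (zpowers a) Q * a = mv p (zpowers a') Q * a' := hc
    rw [hP] at h5
    exact mul_left_cancel h5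
  subst ha
  have hz : newElt p i ⟨(a, Q, S), ht⟩ = newElt p i ⟨(a, Q, S'), ht'⟩ := by
    rw [← he, ← he', hA]
  have hSS : S = S' := by rw [← hS, ← hS', hz]
  subst hSS
  rfl

theorem ph_newGen (hH : Cyc p m H) (t : Tri H) :
    ph p (zpowers (newGen p t)) t.1.2.1 (newGen p t) = ph p (zpowers t.1.1) t.1.2.1 t.1.1 := by
  obtain ⟨h1, h2, h3, -⟩ := newGen_spec hH t
  conv_lhs => arg 4; rw [← h3]
  exact ph_comp hH.hyp t.2.1 t.2.2.1 t.2.1 h1 t.2.2.1 le_sup_left h2 le_sup_right _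

/-- A bad triangle determines the composite of the next one. -/
theorem next_loop (hH : Cyc p m H) {i : ℤ} (hi : IsCoprime i (p : ℤ)) (t : Tri H)
    (hbad : Bad p m t) :
    loop p (zpowers (newGen p t)) t.1.2.1 (zpowers (newElt p i t)) (newGen p t ^ p ^ m) ^ i =
      (newGen p t ^ p ^ m)⁻¹ := by
  obtain ⟨hBc, hBle, -, hBQ⟩ := newGen_spec hH t
  obtain ⟨hAc, hz1, hz1S⟩ := newElt_spec hH hi t
  have hv := ph_newGen hH t
  set c := newGen p t with hc
  set z1 := newElt p i t with hz1'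
  set B := zpowers c
  set A := zpowers z1
  set P := zpowers t.1.1
  set Q := t.1.2.1
  set S := t.1.2.2
  have hL : loop p B Q A (c ^ p ^ m) ^ i = (ph p A B z1) ^ p ^ m := by
    rw [loop, ph_pow, ph_pow, ph_pow, hv]
    conv_rhs => rw [← hz1, ph_zpow, ph_zpow, ph_zpow]
    rw [← zpow_natCast, ← zpow_mul, ← zpow_natCast (_ ^ i), ← zpow_mul, mul_comm]
  rw [hL]
  by_contra hne
  have hkB : ph p A B z1 ∈ B := ph_mem hH.hyp hAc hBc (mem_zpowers z1)
  set w := ph p A B z1 * c with hw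
  have hwB : w ∈ B := mul_mem hkB (mem_zpowers c)
  have hwq : w ^ p ^ m ≠ 1 := by
    rw [hw, (commute_H (hBc.hyp hH.hyp) hkB (mem_zpowers c)).mul_pow]
    exact fun h => hne (eq_inv_of_mul_eq_one_left h)
  have hwgen : zpowers w = B := hH.zpowers_eq_of_pow_ne hBc hwB hwq
  set k := mv p A B with hk
  have hkoc : k ∈ oc p (B ⊔ A) := sup_comm A B ▸ (mv_spec hH.hyp hAc hBc).1
  have hxoc : z1 * (ph p A B z1)⁻¹ ∈ oc p (B ⊔ A) := by
    rw [show z1 * (ph p A B z1)⁻¹ = z1 * k * z1⁻¹ * k⁻¹ by rw [ph, ← hk]; group]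
    exact mul_mem (oc_conj (mem_sup_right (mem_zpowers z1)) hkoc) (inv_mem hkoc)
  obtain ⟨hDc, -, -⟩ := rotate hH.hyp hAc hwgen hBc hxoc
  rw [show z1 * (ph p A B z1)⁻¹ * w = z1 * c by rw [hw]; group] at hDc
  refine hbad ?_
  set x := t.1.1 ^ p ^ m
  have hxP : x ∈ P := pow_mem (mem_zpowers _) _
  have hzP : cj (z1 * c) P = S := by rw [← cj_cj, hBQ, hz1S]
  have h1 : ph p P Q x = c * x * c⁻¹ := by
    have := ph_of_mem hH.hyp t.2.1 hBc (mem_zpowers c) hxP
    rwa [hBQ] at this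
  have h2 : ph p Q S (c * x * c⁻¹) = z1 * (c * x * c⁻¹) * z1⁻¹ := by
    have := ph_of_mem hH.hyp t.2.2.1 hAc (mem_zpowers z1) (z := z1)
      (x := c * x * c⁻¹) (hBQ.le (mem_cj hxP))
    rwa [hz1S] at this
  have h3 : ph p P S x = z1 * c * x * (z1 * c)⁻¹ := by
    have := ph_of_mem hH.hyp t.2.1 hDc (mem_zpowers (z1 * c)) hxP
    rwa [hzP] at this
  show ph p S P (ph p Q S (ph p P Q x)) = x
  rw [h1, h2, show z1 * (c * x * c⁻¹) * z1⁻¹ = z1 * c * x * (z1 * c)⁻¹ by group, ← h3,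
    ph_symm hH.hyp t.2.1 t.2.2.2]

theorem bad_next (hH : Cyc p m H) {i : ℤ} (hi : IsCoprime i (p : ℤ))
    (hi1 : ¬ (p : ℤ) ∣ i + 1) {t : Tri H} (hbad : Bad p m t) : Bad p m (next hH hi t) := by
  intro heq
  have h := next_loop hH hi t hbad
  have hord := hH.orderOf_top (newGen_spec hH t).1
  simp only [next] at heq
  rw [heq] at h
  refine hi1 ?_
  rw [← hord, orderOf_dvd_iff_zpow_eq_one, zpow_add, zpow_one, h, inv_mul_cancel]

theorem loop_of_bad (hH : Cyc p m H) {i : ℤ} (hi : IsCoprime i (p : ℤ))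
    (hi1 : ¬ (p : ℤ) ∣ i + 1) {t : Tri H} (hbad : Bad p m t) :
    loop p (zpowers t.1.1) t.1.2.1 t.1.2.2 (t.1.1 ^ p ^ m) ^ i = (t.1.1 ^ p ^ m)⁻¹ := by
  let f : {t : Tri H // Bad p m t} → {t : Tri H // Bad p m t} :=
    fun s => ⟨next hH hi s.1, bad_next hH hi hi1 s.2⟩
  have hf : Function.Surjective f := Finite.injective_iff_surjective.1 fun a b h =>
    Subtype.ext (next_injective hH hi (congrArg Subtype.val h))
  obtain ⟨⟨s, hs⟩, hst⟩ := hf ⟨t, hbad⟩
  have h : next hH hi s = t := congrArg Subtype.val hst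
  rw [← h]
  exact next_loop hH hi s hs

theorem not_bad_of_five_le (hH : Cyc p m H) (h5 : 5 ≤ p) (t : Tri H) : ¬ Bad p m t := by
  intro hbad
  have hne : ∀ k : ℕ, 0 < k → k < 5 → ¬ (p : ℤ) ∣ (k : ℤ) := fun k h1 h2 h => by
    have := Nat.le_of_dvd h1 (Int.natCast_dvd_natCast.1 h)
    omega
  have h1 := loop_of_bad hH (i := 1) isCoprime_one_left
    (by simpa using hne 2 two_pos (by norm_num)) hbad
  have h2 := loop_of_bad hH (i := 2)
    (((Nat.prime_iff_prime_int.1 hp.out).coprime_iff_not_dvd.2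
      (by simpa using hne 2 two_pos (by norm_num))).symm)
    (by simpa using hne 3 three_pos (by norm_num)) hbad
  rw [zpow_one] at h1
  rw [h1, zpow_two, mul_eq_left, inv_eq_one] at h2
  have := hH.orderOf_top t.2.1
  rw [h2, orderOf_one] at this
  exact hp.out.ne_one this.symm

section Three

theorem loop_mem (hH : Cyc p m H) (t : Tri H) {x : G} (hx : x ∈ zpowers t.1.1) :
    loop p (zpowers t.1.1) t.1.2.1 t.1.2.2 x ∈ zpowers t.1.1 :=
  ph_mem hH.hyp t.2.2.2 t.2.1 (ph_mem hH.hyp t.2.2.1 t.2.2.2 (ph_mem hH.hyp t.2.1 t.2.2.1 hx))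

theorem loop_cases (hH : Cyc p m H) (h3 : p = 3) (t : Tri H) :
    loop p (zpowers t.1.1) t.1.2.1 t.1.2.2 (t.1.1 ^ p ^ m) = t.1.1 ^ p ^ m ∨
      loop p (zpowers t.1.1) t.1.2.1 t.1.2.2 (t.1.1 ^ p ^ m) = (t.1.1 ^ p ^ m)⁻¹ := by
  set u := t.1.1 ^ p ^ m with hu
  have hord : orderOf u = p := hH.orderOf_top t.2.1
  have hxp : loop p (zpowers t.1.1) t.1.2.1 t.1.2.2 u ^ p = 1 := by
    rw [loop, ← ph_pow, ← ph_pow, ← ph_pow, ← hord, pow_orderOf_eq_one]
    simp [ph]
  obtain ⟨k, hk⟩ := hH.mem_top t.2.1 (loop_mem hH t (pow_mem (mem_zpowers _) _)) hxp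
  rw [← hu] at hk
  rw [hk]
  have hk' : u ^ k = u ^ (k % 3) := by rw [← zpow_mod_orderOf, hord, h3]; rfl
  have : k % 3 = 0 ∨ k % 3 = 1 ∨ k % 3 = 2 := by omega
  rcases this with h | h | h
  · exfalso
    rw [hk', h, zpow_zero, loop, ph_eq_one_iff, ph_eq_one_iff, ph_eq_one_iff] at hk
    rw [hk, orderOf_one] at hord
    exact hp.out.ne_one hord.symm
  · left; rw [hk', h, zpow_one]
  · right
    rw [hk', h, eq_inv_iff_mul_eq_one, ← zpow_add_one, show (2 : ℤ) + 1 = ((3 : ℕ) : ℤ) by norm_num,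
      zpow_natCast, ← h3, ← hord, pow_orderOf_eq_one]

/-- Inverting the generator. -/
def flip (t : Tri H) : Tri H :=
  ⟨(t.1.1⁻¹, t.1.2), by rw [zpowers_inv]; exact t.2⟩

theorem flip_injective : Function.Injective (flip (H := H)) := fun a b h => by
  have h1 := congrArg (fun x : Tri H => x.1) h
  simp only [flip, Prod.mk.injEq, inv_inj] at h1
  exact Subtype.ext (Prod.ext h1.1 h1.2)

theorem bad_flip (t : Tri H) : Bad p m (flip t) ↔ Bad p m t := by
  simp only [Bad, flip, zpowers_inv, loop, inv_pow, ph_inv, ne_eq, inv_inj]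

theorem not_bad_three (hH : Cyc p m H) (h3 : p = 3) (t₀ : Tri H) : ¬ Bad p m t₀ := by
  intro hbad₀
  subst h3
  have hpos : IsCoprime (1 : ℤ) ((3 : ℕ) : ℤ) := isCoprime_one_left
  have hneg : IsCoprime (-1 : ℤ) ((3 : ℕ) : ℤ) := isCoprime_one_left.neg_left
  let np : Tri H → Tri H := next hH hpos
  let nm : Tri H → Tri H := fun t => next hH hneg (flip t)
  have hnp : ∀ t, Bad 3 m t → Bad 3 m (np t) := fun t ht => bad_next hH hpos (by decide) ht
  have hnm : ∀ t, Bad 3 m t → ¬ Bad 3 m (nm t) := by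
    intro t ht h
    have h1 := next_loop hH hneg (flip t) ((bad_flip t).2 ht)
    rw [zpow_neg_one, inv_inj] at h1
    exact h h1
  have hnmb : Function.Bijective nm := by
    have : Function.Injective nm := (next_injective hH hneg).comp flip_injective
    exact ⟨this, Finite.injective_iff_surjective.1 this⟩
  have hnp' : ∀ t, Bad 3 m (np t) → Bad 3 m t := by
    intro t ht
    let f : {t : Tri H // Bad 3 m t} → {t : Tri H // Bad 3 m t} :=
      fun s => ⟨np s.1, hnp _ s.2⟩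
    have hf : Function.Surjective f := Finite.injective_iff_surjective.1 fun a b h =>
      Subtype.ext (next_injective hH hpos (congrArg Subtype.val h))
    obtain ⟨⟨s, hs⟩, hst⟩ := hf ⟨np t, ht⟩
    rw [← next_injective hH hpos (congrArg Subtype.val hst : np s = np t)]
    exact hs
  -- the triangle through the two new conjugates
  let ps : Tri H → Tri H := fun t => ⟨(newGen 3 t, zpowers (newGen 3 (flip t)), zpowers (newElt 3 1 t)),
    (newGen_spec hH t).1, (newGen_spec hH (flip t)).1, (newElt_spec hH hpos t).1⟩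
  have helt : ∀ t : Tri H, newElt 3 (-1) (flip t) = newElt 3 1 t := fun t => by
    simp [newElt, flip, zpowers_inv]
  have hpair : ∀ t : Tri H, ph 3 (zpowers (newGen 3 t)) (zpowers (newGen 3 (flip t))) (newGen 3 t) =
      (newGen 3 (flip t))⁻¹ := by
    intro t
    obtain ⟨h1, h2, h3, -⟩ := newGen_spec hH t
    obtain ⟨h1', h2', h3', -⟩ := newGen_spec hH (flip t)
    simp only [flip, zpowers_inv] at h2' h3' h1' ⊢
    conv_lhs => arg 4; rw [← h3]
    rw [ph_comp hH.hyp t.2.1 t.2.2.1 t.2.1 h1 h1' le_sup_left h2 h2']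
    rw [← inv_inj, inv_inv, ← ph_inv]
    exact h3'
  have hps : ∀ t, (Bad 3 m (np t) ∧ ¬ Bad 3 m (nm t)) ∨ (¬ Bad 3 m (np t) ∧ Bad 3 m (nm t)) →
      Bad 3 m (ps t) := by
    intro t ht
    obtain ⟨h1, -, -, -⟩ := newGen_spec hH t
    obtain ⟨h1', -, -, -⟩ := newGen_spec hH (flip t)
    have hA := (newElt_spec hH hpos t).1
    set cp := newGen 3 t with hcp
    set cm := newGen 3 (flip t) with hcm
    set A := zpowers (newElt 3 1 t)
    set w := ph 3 t.1.2.1 A (ph 3 (zpowers t.1.1) t.1.2.1 (t.1.1 ^ 3 ^ m)) with hw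
    set um := (cm ^ 3 ^ m)⁻¹ with hum
    have hlp : loop 3 (zpowers cp) t.1.2.1 A (cp ^ 3 ^ m) = ph 3 A (zpowers cp) w := by
      rw [loop, ph_pow (zpowers cp) t.1.2.1, ph_newGen hH t, ← ph_pow]
    have hlm : loop 3 (zpowers cm) t.1.2.1 A (cm ^ 3 ^ m) = (ph 3 A (zpowers cm) w)⁻¹ := by
      have h := ph_newGen hH (flip t)
      rw [← hcm] at h
      simp only [flip, zpowers_inv] at h
      rw [loop, ph_pow (zpowers cm) t.1.2.1, h, ph_inv, inv_pow, ← ph_pow, ph_inv, ph_inv]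
    have hbp : Bad 3 m (np t) ↔ ph 3 A (zpowers cp) w ≠ cp ^ 3 ^ m := by
      rw [← hlp]; rfl
    have hbm : Bad 3 m (nm t) ↔ ph 3 A (zpowers cm) w ≠ um := by
      have : Bad 3 m (nm t) ↔ loop 3 (zpowers cm) t.1.2.1 A (cm ^ 3 ^ m) ≠ cm ^ 3 ^ m := by
        simp only [nm, Bad, next, helt]; rfl
      rw [this, hlm, hum, ne_eq, ne_eq, inv_eq_iff_eq_inv]
    have hmid : ph 3 (zpowers cp) (zpowers cm) (cp ^ 3 ^ m) = um := by
      rw [ph_pow, hpair t, inv_pow]
    show loop 3 (zpowers cp) (zpowers cm) A (cp ^ 3 ^ m) ≠ cp ^ 3 ^ m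
    rw [loop, hmid]
    rcases ht with ⟨hb1, hb2⟩ | ⟨hb1, hb2⟩
    · rw [hbm, not_not] at hb2
      rw [← hb2, ph_symm hH.hyp hA h1']
      exact hbp.1 hb1
    · rw [hbp, not_not] at hb1
      have hcase : ph 3 A (zpowers cm) w = um⁻¹ := by
        have h := loop_cases hH rfl (nm t)
        simp only [nm, next, helt] at h
        change loop 3 (zpowers cm) t.1.2.1 A (cm ^ 3 ^ m) = cm ^ 3 ^ m ∨
          loop 3 (zpowers cm) t.1.2.1 A (cm ^ 3 ^ m) = (cm ^ 3 ^ m)⁻¹ at h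
        rw [hlm] at h
        rcases h with h | h
        · exact absurd (by rw [hum, ← h, inv_inv]) (hbm.1 hb2)
        · rw [inv_inj] at h
          rw [hum, inv_inv, h]
      rw [inv_eq_iff_eq_inv.1 hcase.symm, ph_inv, ph_symm hH.hyp hA h1', ph_inv, hb1]
      intro h
      have h2 : (cp ^ 3 ^ m) ^ 2 = 1 := by
        rw [pow_two]; nth_rw 1 [← h]; exact inv_mul_cancel _
      have h3 := orderOf_dvd_of_pow_eq_one h2
      rw [hH.orderOf_top h1] at h3
      omega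
  have hpsinj : Function.Injective ps := by
    rintro ⟨⟨a, Q, S⟩, ht⟩ ⟨⟨a', Q', S'⟩, ht'⟩ h
    set t : Tri H := ⟨(a, Q, S), ht⟩
    set t' : Tri H := ⟨(a', Q', S'), ht'⟩
    have hcp : newGen 3 t = newGen 3 t' := congrArg (fun x : Tri H => x.1.1) h
    have hBm : zpowers (newGen 3 (flip t)) = zpowers (newGen 3 (flip t')) :=
      congrArg (fun x : Tri H => x.1.2.1) h
    have hA : zpowers (newElt 3 1 t) = zpowers (newElt 3 1 t') :=
      congrArg (fun x : Tri H => x.1.2.2) h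
    have hcm : newGen 3 (flip t) = newGen 3 (flip t') := by
      rw [← inv_inj, ← hpair t, ← hpair t', hcp, hBm]
    have hsq : a * a = a' * a' := by
      have key : ∀ (k x : G), (k * x⁻¹)⁻¹ * (k * x) = x * x := fun k x => by group
      have e1 : (newGen 3 (flip t))⁻¹ * newGen 3 t = a * a := by
        simp only [newGen, flip, zpowers_inv, t]; exact key _ _
      have e2 : (newGen 3 (flip t'))⁻¹ * newGen 3 t' = a' * a' := by
        simp only [newGen, flip, zpowers_inv, t']; exact key _ _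
      rw [← e1, ← e2, hcp, hcm]
    have hroot : ∀ x : G, IsCj H (zpowers x) → x = (x * x) ^ ((3 ^ (m + 1) + 1) / 2) := by
      intro x hx
      have hodd : Odd (3 ^ (m + 1)) := Odd.pow (by decide)
      rw [← pow_two, ← pow_mul, show 2 * ((3 ^ (m + 1) + 1) / 2) = 3 ^ (m + 1) + 1 by
        obtain ⟨r, hr⟩ := hodd; omega, pow_succ, ← hH.orderOf_gen hx, pow_orderOf_eq_one, one_mul]
    have haa : a = a' := by
      rw [hroot a ht.1, hroot a' ht'.1, hsq]
    subst haa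
    have hmv : mv 3 (zpowers a) Q = mv 3 (zpowers a) Q' := by
      have : mv 3 (zpowers a) Q * a = mv 3 (zpowers a) Q' * a := hcp
      exact mul_right_cancel this
    have hQQ : Q = Q' := by
      have e1 : cj (mv 3 (zpowers a) Q) (zpowers a) = Q := (mv_spec hH.hyp ht.1 ht.2.1).2
      have e2 : cj (mv 3 (zpowers a) Q') (zpowers a) = Q' := (mv_spec hH.hyp ht'.1 ht'.2.1).2
      exact e1.symm.trans ((congrArg (fun k => cj k (zpowers a)) hmv).trans e2)
    subst hQQ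
    obtain ⟨-, he, hS⟩ := newElt_spec hH hpos t
    obtain ⟨-, he', hS'⟩ := newElt_spec hH hpos t'
    have hz : newElt 3 1 t = newElt 3 1 t' := by
      rw [← he, ← he', hA]
    have hSS : S = S' := by
      simp only [t, t'] at hS hS' hz
      rw [← hS, ← hS', hz]
    subst hSS
    rfl
  -- the count
  let f : {t : Tri H // Bad 3 m t} ⊕ {t : Tri H // Bad 3 m (nm t)} → {t : Tri H // Bad 3 m t} :=
    fun s => s.elim (fun t => ⟨ps t.1, hps _ (Or.inl ⟨hnp _ t.2, hnm _ t.2⟩)⟩)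
      (fun t => ⟨ps t.1, hps _ (Or.inr ⟨fun h => hnm _ (hnp' _ h) t.2, t.2⟩)⟩)
  have hf : Function.Injective f := by
    rintro (⟨s, hs⟩ | ⟨s, hs⟩) (⟨t, ht⟩ | ⟨t, ht⟩) h <;>
      have he : s = t := hpsinj (congrArg Subtype.val h) <;> subst he
    · rfl
    · exact absurd ht (hnm _ hs)
    · exact absurd hs (hnm _ ht)
    · rfl
  have hcard := Nat.card_le_card_of_injective f hf
  have hW : Nat.card {t : Tri H // Bad 3 m (nm t)} = Nat.card {t : Tri H // Bad 3 m t} :=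
    Nat.card_congr ((Equiv.ofBijective nm hnmb).subtypeEquiv fun _ => Iff.rfl)
  rw [Nat.card_sum, hW] at hcard
  have : 0 < Nat.card {t : Tri H // Bad 3 m t} :=
    Nat.card_pos_iff.2 ⟨⟨⟨t₀, hbad₀⟩⟩, inferInstance⟩
  omega

end Three

theorem not_bad (hH : Cyc p m H) (hp2 : p ≠ 2) (t : Tri H) : ¬ Bad p m t := by
  rcases Nat.lt_or_ge p 5 with h | h
  · have := hp.out.two_le
    have h4 : p ≠ 4 := fun h4 => by have := hp.out; rw [h4] at this; norm_num at this
    exact not_bad_three hH (by omega) t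
  · exact not_bad_of_five_le hH h t

end CfsgLib.LocalEvenB.ExtremelyClosedOdd
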